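import Cfsg.Agent.OddHalf.D9.G24.Label
import Cfsg.Agent.GTwoFour.RedAut
import Cfsg.Agent.StdG24.Ax6

/-!
# Perfect double covers of `G₂(4)`: the structure `Def.KFacts`
-/

set_option autoImplicit false
set_option linter.unusedVariables false
set_option linter.unusedSectionVars false

namespace Cfsg.Agent.OddHalf.D9.G24.KFacts

open Subgroup
open scoped commutatorElement
open Cfsg.Agent.StdG24.Mod6 Cfsg.Agent.OddHalf.D9.G24.Collect Cfsg.Agent.OddHalf.D9.G24.Tab
  Cfsg.Agent.OddHalf.D9.G24.Cover Cfsg.Agent.OddHalf.D9.G24.Split Cfsg.Agent.OddHalf.D9.G24.InvL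
  Cfsg.Agent.OddHalf.D9.G24.Inner Cfsg.Agent.OddHalf.D9.G24.Label
open Cfsg.Agent.GTwoFour.Mdl (X P Q1)

variable {K : Type*} [Group K] {z : K} {π : K →* L}

/-- centralizers of conjugates -/
theorem mem_cent_conj {e c x : K} (h : x * e * x⁻¹ = c) {y : K} :
    y ∈ centralizer ({e} : Set K) ↔ x * y * x⁻¹ ∈ centralizer ({c} : Set K) := by
  rw [mem_centralizer_singleton_iff, mem_centralizer_singleton_iff, ← h]
  constructor
  · intro hy
    calc x * y * x⁻¹ * (x * e * x⁻¹) = x * (y * e) * x⁻¹ := by group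
      _ = x * (e * y) * x⁻¹ := by rw [hy]
      _ = _ := by group
  · intro hy
    calc y * e = x⁻¹ * (x * y * x⁻¹ * (x * e * x⁻¹)) * x := by group
      _ = x⁻¹ * (x * e * x⁻¹ * (x * y * x⁻¹)) * x := by rw [hy]
      _ = _ := by group

theorem cent_eq_map {e c x : K} (h : x * e * x⁻¹ = c) :
    centralizer ({c} : Set K) = (centralizer ({e} : Set K)).map (MulAut.conj x).toMonoidHom := by
  ext y
  constructor
  · intro hy
    refine ⟨x⁻¹ * y * x, (mem_cent_conj h).2 ?_, ?_⟩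
    · have : x * (x⁻¹ * y * x) * x⁻¹ = y := by group
      rwa [this]
    · change x * (x⁻¹ * y * x) * x⁻¹ = y
      group
  · rintro ⟨w, hw, rfl⟩
    exact (mem_cent_conj h).1 hw

theorem perfect_conj {e c x : K} (h : x * e * x⁻¹ = c)
    (hp : ⁅centralizer ({c} : Set K), centralizer ({c} : Set K)⁆ = centralizer ({c} : Set K)) :
    ⁅centralizer ({e} : Set K), centralizer ({e} : Set K)⁆ = centralizer ({e} : Set K) := by
  have h' : x⁻¹ * c * x⁻¹⁻¹ = e := by rw [← h]; group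
  rw [cent_eq_map h', ← map_commutator, hp]

section

variable (C : Cov z π) {k : ℕ → K} (hk : Lifts π k) (S : Tb z k)

include C hk S

theorem cent_z (c : K) : centralizer ({c * z} : Set K) = centralizer ({c} : Set K) := by
  ext y
  rw [mem_centralizer_singleton_iff, mem_centralizer_singleton_iff]
  constructor
  · intro h
    have h1 : y * c * z = c * y * z := by
      calc y * c * z = y * (c * z) := by group
        _ = c * (z * y) := by rw [h]; group
        _ = c * y * z := by rw [C.zc]; group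
    exact mul_right_cancel h1
  · intro h
    calc y * (c * z) = y * c * z := by group
      _ = c * (y * z) := by rw [h]; group
      _ = c * z * y := by rw [← C.zc]; group

/-- the involutions of `K` -/
theorem inv_cases {e : K} (hee : e * e = 1) (he1 : e ≠ 1) (hez : e ≠ z) :
    ∃ x, x * e * x⁻¹ = k 10 ∨ x * e * x⁻¹ = k 10 * z := by
  have hp1 : (π e : GL6) ≠ 1 := by
    intro h
    rcases C.ker e (Subtype.ext h) with h | h
    · exact he1 h
    · exact hez h
  have hp2 : (π e : GL6) * π e = 1 := by rw [← Subgroup.coe_mul, ← map_mul, hee, map_one]; rfl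
  rcases conj_inv (π e).2 hp2 hp1 with ⟨g, hg, h⟩ | ⟨g, hg, h⟩
  · obtain ⟨x, hx⟩ := exists_lift C g hg
    refine ⟨x, eq_or' C ?_⟩
    rw [map_mul, map_mul, map_inv, Subgroup.coe_mul, Subgroup.coe_mul, Subgroup.coe_inv, hx, h,
      coe_k C hk S (by norm_num)]
    rfl
  · exfalso
    obtain ⟨x, hx⟩ := exists_lift C g hg
    have h1 : x * e * x⁻¹ = k 6 ∨ x * e * x⁻¹ = k 6 * z := by
      apply eq_or' C
      rw [map_mul, map_mul, map_inv, Subgroup.coe_mul, Subgroup.coe_mul, Subgroup.coe_inv, hx, h,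
        coe_k C hk S (by norm_num)]
      rfl
    have h2 : x * e * x⁻¹ * (x * e * x⁻¹) = 1 := by
      calc x * e * x⁻¹ * (x * e * x⁻¹) = x * (e * e) * x⁻¹ := by group
        _ = 1 := by rw [hee]; group
    have h6 := k6_sq C hk S
    rcases h1 with h1 | h1
    · rw [h1, h6] at h2; exact C.z1 h2
    · rw [h1] at h2
      have h3 : k 6 * z * (k 6 * z) = z := by
        calc k 6 * z * (k 6 * z) = k 6 * (z * k 6) * z := by group
          _ = k 6 * k 6 * (z * z) := by rw [C.zc]; group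
          _ = z := by rw [h6, C.zz, mul_one]
      rw [h3] at h2
      exact C.z1 h2

/-- the square roots of `z` in `K` -/
theorem root_cases {v : K} (hv : v * v = z) : ∃ x, x * v * x⁻¹ = k 6 ∨ x * v * x⁻¹ = k 6 * z := by
  have hp1 : (π v : GL6) ≠ 1 := by
    intro h
    rcases C.ker v (Subtype.ext h) with h | h
    · rw [h, one_mul] at hv; exact C.z1 hv.symm
    · rw [h, C.zz] at hv; exact C.z1 hv.symm
  have hp2 : (π v : GL6) * π v = 1 := by rw [← Subgroup.coe_mul, ← map_mul, hv, C.pz]; rfl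
  rcases conj_inv (π v).2 hp2 hp1 with ⟨g, hg, h⟩ | ⟨g, hg, h⟩
  · exfalso
    obtain ⟨x, hx⟩ := exists_lift C g hg
    have h1 : x * v * x⁻¹ = k 10 ∨ x * v * x⁻¹ = k 10 * z := by
      apply eq_or' C
      rw [map_mul, map_mul, map_inv, Subgroup.coe_mul, Subgroup.coe_mul, Subgroup.coe_inv, hx, h,
        coe_k C hk S (by norm_num)]
      rfl
    have h2 : x * v * x⁻¹ * (x * v * x⁻¹) = z := by
      calc x * v * x⁻¹ * (x * v * x⁻¹) = x * (v * v) * x⁻¹ := by group
        _ = z := by rw [hv, ← C.zc]; group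
    have h10 := k10_sq C hk S
    rcases h1 with h1 | h1
    · rw [h1, h10] at h2; exact C.z1 h2.symm
    · rw [h1] at h2
      have h3 : k 10 * z * (k 10 * z) = 1 := by
        calc k 10 * z * (k 10 * z) = k 10 * (z * k 10) * z := by group
          _ = k 10 * k 10 * (z * z) := by rw [C.zc]; group
          _ = 1 := by rw [h10, C.zz, mul_one]
      rw [h3] at h2
      exact C.z1 h2.symm
  · obtain ⟨x, hx⟩ := exists_lift C g hg
    refine ⟨x, eq_or' C ?_⟩
    rw [map_mul, map_mul, map_inv, Subgroup.coe_mul, Subgroup.coe_mul, Subgroup.coe_inv, hx, h,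
      coe_k C hk S (by norm_num)]
    rfl

theorem conj_inv_K {e e' : K} (hee : e * e = 1) (he1 : e ≠ 1) (hez : e ≠ z) (hee' : e' * e' = 1)
    (he1' : e' ≠ 1) (hez' : e' ≠ z) : ∃ x : K, x * e * x⁻¹ = e' ∨ x * e * x⁻¹ = e' * z := by
  obtain ⟨x, hx⟩ := inv_cases C hk S hee he1 hez
  obtain ⟨y, hy⟩ := inv_cases C hk S hee' he1' hez'
  refine ⟨y⁻¹ * x, ?_⟩
  have h0 : y⁻¹ * x * e * (y⁻¹ * x)⁻¹ = y⁻¹ * (x * e * x⁻¹) * y := by group
  have hz : ∀ w : K, y⁻¹ * (w * z) * y = y⁻¹ * w * y * z := by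
    intro w
    calc y⁻¹ * (w * z) * y = y⁻¹ * w * (z * y) := by group
      _ = _ := by rw [C.zc]; group
  have hc : ∀ w : K, y * e' * y⁻¹ = w → y⁻¹ * w * y = e' := by
    intro w hw; rw [← hw]; group
  rw [h0]
  rcases hx with hx | hx <;> rcases hy with hy | hy
  · left; rw [hx]; exact hc _ hy
  · right
    rw [hx]
    have h1 := hc _ hy
    rw [hz] at h1
    calc y⁻¹ * k 10 * y = y⁻¹ * k 10 * y * (z * z) := by rw [C.zz, mul_one]
      _ = _ := by rw [← mul_assoc, h1]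
  · right; rw [hx, hz, hc _ hy]
  · left; rw [hx]; exact hc _ hy

theorem cperf_K {e : K} (hee : e * e = 1) (he1 : e ≠ 1) (hez : e ≠ z) :
    ⁅centralizer ({e} : Set K), centralizer ({e} : Set K)⁆ = centralizer ({e} : Set K) := by
  obtain ⟨x, hx | hx⟩ := inv_cases C hk S hee he1 hez
  · exact perfect_conj hx (perfect10 C hk S)
  · refine perfect_conj hx ?_
    rw [cent_z C hk S]
    exact perfect10 C hk S

theorem label_K {e : K} (hee : e * e = 1) (he1 : e ≠ 1) (hez : e ≠ z)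
    (θ : centralizer ({e} : Set K) ≃* centralizer ({e} : Set K)) :
    ((θ ⟨e, mem_centralizer_singleton_iff.2 rfl⟩ : centralizer ({e} : Set K)) : K) ≠ z := by
  intro hθ
  obtain ⟨x, hx⟩ := inv_cases C hk S hee he1 hez
  obtain ⟨c, hc⟩ : ∃ c, x * e * x⁻¹ = c := ⟨_, rfl⟩
  rw [hc] at hx
  have hcP : centralizer ({c} : Set K) = pre π P := by
    rcases hx with h | h
    · rw [h, cent10_eq C hk S]
    · rw [h, cent_z C hk S, cent10_eq C hk S]
  have hmem : ∀ y, y ∈ centralizer ({e} : Set K) ↔ x * y * x⁻¹ ∈ pre π P := by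
    intro y; rw [← hcP]; exact mem_cent_conj hc
  -- the isomorphism
  let φ : centralizer ({e} : Set K) ≃* pre π P :=
    { toFun := fun y => ⟨x * y * x⁻¹, (hmem y).1 y.2⟩
      invFun := fun y => ⟨x⁻¹ * y * x, (hmem _).2 (by
        have : x * (x⁻¹ * (y : K) * x) * x⁻¹ = y := by group
        rw [this]; exact y.2)⟩
      left_inv := fun y => Subtype.ext (by
        change x⁻¹ * (x * (y : K) * x⁻¹) * x = y
        group)
      right_inv := fun y => Subtype.ext (by
        change x * (x⁻¹ * (y : K) * x) * x⁻¹ = y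
        group)
      map_mul' := fun a b => Subtype.ext (by
        change x * ((a : K) * b) * x⁻¹ = x * a * x⁻¹ * (x * b * x⁻¹)
        group) }
  have hcm : c ∈ pre π P := by
    rw [← hcP]; exact mem_centralizer_singleton_iff.2 rfl
  refine label C hk S hx ((φ.symm.trans θ).trans φ) hcm ?_
  have h1 : φ.symm ⟨c, hcm⟩ = ⟨e, mem_centralizer_singleton_iff.2 rfl⟩ := Subtype.ext (by
    change x⁻¹ * c * x = e
    rw [← hc]; group)
  change ((φ (θ (φ.symm ⟨c, hcm⟩)) : pre π P) : K) = z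
  rw [h1]
  change x * ((θ ⟨e, mem_centralizer_singleton_iff.2 rfl⟩ : centralizer ({e} : Set K)) : K) * x⁻¹ = z
  rw [hθ, ← C.zc]; group

theorem root_K {v : K} (hv : v * v = z) : ∃ W : Subgroup K, ⁅W, W⁆ = W ∧ z ∈ W ∧ ∀ w ∈ W, w * v = v * w := by
  obtain ⟨W, hW, hzW, hc⟩ := root6 C hk S
  obtain ⟨x, hx⟩ := root_cases C hk S hv
  refine ⟨W.map (MulAut.conj x⁻¹).toMonoidHom, ?_, ?_, ?_⟩
  · rw [← map_commutator, hW]
  · exact ⟨z, hzW, by change x⁻¹ * z * x⁻¹⁻¹ = z; rw [← C.zc]; group⟩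
  · rintro _ ⟨w, hw, rfl⟩
    change x⁻¹ * w * x⁻¹⁻¹ * v = v * (x⁻¹ * w * x⁻¹⁻¹)
    have h1 : w * (x * v * x⁻¹) = x * v * x⁻¹ * w := by
      rcases hx with h | h
      · rw [h]; exact hc w hw
      · rw [h]
        calc w * (k 6 * z) = w * k 6 * z := by group
          _ = k 6 * (w * z) := by rw [hc w hw]; group
          _ = k 6 * z * w := by rw [← C.zc]; group
    calc x⁻¹ * w * x⁻¹⁻¹ * v = x⁻¹ * (w * (x * v * x⁻¹)) * x := by group
      _ = x⁻¹ * (x * v * x⁻¹ * w) * x := by rw [h1]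
      _ = _ := by group

end

/-! ### Automorphisms -/

theorem center_L {c : L} (hc : ∀ x : L, c * x = x * c) : c = 1 :=
  Cfsg.Agent.GTwoFour.RedAut.center_triv Cfsg.Agent.StdG24.Ax6.ax6 hc

theorem cen_K (C : Cov z π) {x : K} (hx : ∀ y, x * y = y * x) : x = 1 ∨ x = z := by
  apply C.ker
  apply center_L
  intro y
  obtain ⟨w, rfl⟩ := C.surj y
  rw [← map_mul, ← map_mul, hx]

theorem aut_z (C : Cov z π) (α : MulAut K) : α z = z := by
  have h1 : ∀ y, α z * y = y * α z := by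
    intro y
    obtain ⟨w, rfl⟩ := α.surjective y
    rw [← map_mul, ← map_mul, C.zc]
  rcases cen_K C h1 with h | h
  · exact absurd (α.injective (h.trans (map_one α).symm)) C.z1
  · exact h

/-- the automorphism of `L` induced by an automorphism of `K` -/
theorem exists_induced (C : Cov z π) (α : MulAut K) : ∃ β : MulAut L, ∀ x, β (π x) = π (α x) := by
  have hker : ∀ (γ : MulAut K) (x y : K), π x = π y → π (γ x) = π (γ y) := by
    intro γ x y h
    rcases C.eq_or h with h1 | h1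
    · rw [h1]
    · rw [h1, map_mul, aut_z C γ, map_mul, C.pz, mul_one]
  obtain ⟨f, hf⟩ : ∃ f : MulAut K → L → L, ∀ γ x, f γ (π x) = π (γ x) :=
    ⟨fun γ y => π (γ (C.surj y).choose), fun γ x => hker γ _ _ (C.surj (π x)).choose_spec⟩
  refine ⟨{ toFun := f α, invFun := f α⁻¹, left_inv := ?_, right_inv := ?_, map_mul' := ?_ }, hf α⟩
  · intro y
    obtain ⟨x, rfl⟩ := C.surj y
    rw [hf, hf, MulAut.inv_apply_self]
  · intro y
    obtain ⟨x, rfl⟩ := C.surj y
    rw [hf, hf, MulAut.apply_inv_self]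
  · intro y y'
    obtain ⟨x, rfl⟩ := C.surj y
    obtain ⟨x', rfl⟩ := C.surj y'
    rw [← map_mul, hf, hf, hf, map_mul, map_mul]

/-- an automorphism of a perfect cover trivial on the quotient is trivial -/
theorem eq_one_of_induced (C : Cov z π) (hp : commutator K = ⊤) {α : MulAut K}
    (h : ∀ x, π (α x) = π x) : ∀ x, α x = x := by
  have h1 : ∀ x, ∃ c : K, (∀ y, c * y = y * c) ∧ α x = x * c := by
    intro x
    rcases C.eq_or (h x) with h2 | h2
    · exact ⟨1, fun y => by rw [one_mul, mul_one], by rw [h2, mul_one]⟩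
    · exact ⟨z, C.zc, h2⟩
  have h2 : (⊤ : Subgroup K) ≤ (MonoidHom.eqLocus α.toMonoidHom (MonoidHom.id K)) := by
    rw [← hp, commutator_def, commutator_le]
    intro x _ y _
    obtain ⟨c, hc, hcx⟩ := h1 x
    obtain ⟨d, hd, hdy⟩ := h1 y
    change α ⁅x, y⁆ = ⁅x, y⁆
    rw [map_commutatorElement, hcx, hdy]
    exact Cfsg.Agent.McLLyComp.CoverMT.comm_mul hc hd
  exact fun x => h2 (mem_top x)

/-- an automorphism inducing an inner automorphism is inner -/
theorem inner_of_induced (C : Cov z π) (hp : commutator K = ⊤) {α : MulAut K} {c : K}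
    (h : ∀ x, π (α x) = π c * π x * (π c)⁻¹) : α = MulAut.conj c := by
  have h1 := eq_one_of_induced C hp (α := (MulAut.conj c)⁻¹ * α) (by
    intro x
    have h2 : ((MulAut.conj c)⁻¹ * α) x = c⁻¹ * α x * c := by
      rw [MulAut.mul_apply, ← map_inv, MulAut.conj_apply, inv_inv]
    rw [h2, map_mul, map_mul, h, map_inv]
    group)
  ext x
  have h3 := h1 x
  rw [MulAut.mul_apply] at h3
  have h4 := congrArg (MulAut.conj c) h3
  rwa [MulAut.apply_inv_self] at h4

/-- the inputs on automorphisms of `L = G₂(4)` -/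
structure AutL (sg : MulAut L) : Prop where
  sg0 : ∀ r : Fin 12, sg ⟨gx r 0, gx_mem r 0⟩ = ⟨gx r 0, gx_mem r 0⟩
  sg1 : ∀ r : Fin 12, sg ⟨gx r 1, gx_mem r 1⟩ = ⟨gx r 2, gx_mem r 2⟩
  outer_conj : ∀ b : MulAut L, (∀ x, b (b x) = x) → (¬ ∃ c, ∀ x, b x = c * x * c⁻¹) →
    ∃ g : L, ∀ x, b x = g * sg (g⁻¹ * x * g) * g⁻¹
  sq_inner : ∀ b : MulAut L, ∃ c, ∀ x, b (b x) = c * x * c⁻¹
  /-- `SL₃(2)` -/
  sub : ∃ Y : Subgroup L, ⁅Y, Y⁆ = Y ∧ (∀ y ∈ Y, sg y = y) ∧ (⟨gx 6 0, gx_mem 6 0⟩ : L) ∈ Y ∧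
    (⟨gx 10 0, gx_mem 10 0⟩ : L) ∈ Y

theorem exp2_K (C : Cov z π) (hp : commutator K = ⊤) {sg : MulAut L} (A : AutL sg) (α : MulAut K) :
    ∃ c, α * α = MulAut.conj c := by
  obtain ⟨β, hβ⟩ := exists_induced C α
  obtain ⟨c, hc⟩ := A.sq_inner β
  obtain ⟨d, rfl⟩ := C.surj c
  refine ⟨d, inner_of_induced C hp fun x => ?_⟩
  rw [MulAut.mul_apply, ← hβ, ← hβ, hc]

section

variable (C : Cov z π) {k : ℕ → K} (hk : Lifts π k) (S : Tb z k) {sg : MulAut L} (A : AutL sg)

include C hk S A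

/-- the case of an automorphism inducing the field automorphism -/
theorem out_sg (hp : commutator K = ⊤) {α : MulAut K} (hα : ∀ x, α (α x) = x)
    (hs : ∀ x, π (α x) = sg (π x)) :
    ∃ c, α c * c⁻¹ ≠ 1 ∧ ∃ W : Subgroup K, ⁅W, W⁆ = W ∧ (∀ w ∈ W, α w = w) ∧ α c * c⁻¹ ∈ W := by
  have hgen : ∀ i < 12, π (k i) = ⟨gx (rt i) (tt i), gx_mem _ _⟩ := fun i hi => hk.lift i hi
  -- the perfect subgroup
  obtain ⟨Y, hY, hYs, h6, h10⟩ := A.sub
  have hW' : ∀ x ∈ Y.comap π, α x = x ∨ α x = x * z := by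
    intro x hx
    apply C.eq_or
    rw [hs, hYs _ hx]
  set B : Subgroup K := Y.comap π with hB
  set W : Subgroup K := ⁅B, B⁆ with hW
  have hBW : ∀ x ∈ B, ∃ w ∈ W, ∃ c : K, (∀ y, c * y = y * c) ∧ x = w * c := by
    intro x hx
    have h1 : (π x) ∈ (⁅B, B⁆ : Subgroup K).map π := by
      rw [map_commutator, map_comap_eq_self_of_surjective C.surj, hY]; exact hx
    obtain ⟨w, hw, hwx⟩ := h1
    rcases C.eq_or hwx.symm with h | h
    · exact ⟨w, hw, 1, fun y => by rw [one_mul, mul_one], by rw [mul_one]; exact h⟩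
    · exact ⟨w, hw, z, C.zc, h⟩
  have hWp : ⁅W, W⁆ = W := by
    refine le_antisymm (commutator_le_self _) ?_
    rw [hW, commutator_le]
    intro x hx y hy
    obtain ⟨w, hw, c, hc, rfl⟩ := hBW x hx
    obtain ⟨v, hv, d, hd, rfl⟩ := hBW y hy
    rw [Cfsg.Agent.McLLyComp.CoverMT.comm_mul hc hd]
    exact commutator_mem_commutator hw hv
  have hWα : ∀ w ∈ W, α w = w := by
    have h1 : W ≤ MonoidHom.eqLocus α.toMonoidHom (MonoidHom.id K) := by
      rw [hW, commutator_le]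
      intro x hx y hy
      change α ⁅x, y⁆ = ⁅x, y⁆
      rw [map_commutatorElement]
      have h2 : ∀ x ∈ B, ∃ c : K, (∀ y, c * y = y * c) ∧ α x = x * c := by
        intro x hx
        rcases hW' x hx with h | h
        · exact ⟨1, fun y => by rw [one_mul, mul_one], by rw [mul_one]; exact h⟩
        · exact ⟨z, C.zc, h⟩
      obtain ⟨c, hc, hcx⟩ := h2 x hx
      obtain ⟨d, hd, hdy⟩ := h2 y hy
      rw [hcx, hdy]
      exact Cfsg.Agent.McLLyComp.CoverMT.comm_mul hc hd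
    exact fun w hw => h1 hw
  -- `k 10 ∈ W`
  have c1 := cm0 S (i := 2) (l := 8) (A := [10]) (by norm_num) rfl
  simp only [vl_cons, vl_nil, mul_one] at c1
  have hk10 : ⁅k 8, k 2⁆ = k 10 := by
    have ha := (k10_comm C hk S (i := 2) (by norm_num)).symm
    have hb := (k10_comm C hk S (i := 8) (by norm_num)).symm
    have h3 : k 2 * k 8 * k 10 = k 10 * (k 2 * k 8) := by
      rw [← mul_assoc (k 10), ha, mul_assoc (k 2) (k 10), hb, ← mul_assoc]
    rw [commutatorElement_def, c1, h3]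
    group
  have m8 : k 8 ∈ B := by
    rw [hB, mem_comap, hgen 8 (by norm_num)]; exact h10
  have m2 : k 2 ∈ B := by
    rw [hB, mem_comap, hgen 2 (by norm_num)]; exact h6
  have m10 : k 10 ∈ W := by rw [← hk10]; exact commutator_mem_commutator m8 m2
  have hk10ne : k 10 ≠ 1 := by
    intro h
    have h1 := coe_k C hk S (i := 10) (by norm_num)
    rw [h, map_one] at h1
    exact gx_ne _ _ h1.symm
  -- the action on `k 11`
  have hX : ∀ r : Fin 12, gx r 2 = gx r 0 * gx r 1 := by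
    intro r
    have h6 : cw [(r, 2)] = cw [(r, 0), (r, 1)] := by revert r; decide +kernel
    have := ev_eq_of h6
    rw [ev_singleton] at this
    rw [this, show [(r, (0 : Fin 3)), (r, 1)] = [(r, 0)] ++ [(r, 1)] from rfl, ev_append,
      ev_singleton, ev_singleton]
  have hsg2 : ∀ i, i + 1 < 12 → rt (i + 1) = rt i → tt i = 0 → tt (i + 1) = 1 →
      α (k (i + 1)) = k i * k (i + 1) ∨ α (k (i + 1)) = k i * k (i + 1) * z := by
    intro i hi h1 h2 h3
    apply C.eq_or
    rw [hs, map_mul, hgen i (by omega), hgen (i + 1) hi]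
    have h4 : (⟨gx (rt (i + 1)) (tt (i + 1)), gx_mem _ _⟩ : L) = ⟨gx (rt i) 1, gx_mem _ _⟩ := by
      apply Subtype.ext
      change gx (rt (i + 1)) (tt (i + 1)) = gx (rt i) 1
      rw [h1, h3]
    have h5 : (⟨gx (rt i) (tt i), gx_mem _ _⟩ : L) = ⟨gx (rt i) 0, gx_mem _ _⟩ := by
      apply Subtype.ext
      change gx (rt i) (tt i) = gx (rt i) 0
      rw [h2]
    rw [h4, h5, A.sg1]
    apply Subtype.ext
    exact hX (rt i)
  have hsg0 : ∀ i, i < 12 → tt i = 0 → α (k i) = k i ∨ α (k i) = k i * z := by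
    intro i hi h2
    apply C.eq_or
    rw [hs, hgen i hi]
    have h5 : (⟨gx (rt i) (tt i), gx_mem _ _⟩ : L) = ⟨gx (rt i) 0, gx_mem _ _⟩ := by
      apply Subtype.ext
      change gx (rt i) (tt i) = gx (rt i) 0
      rw [h2]
    rw [h5, A.sg0]
  -- `α (k 6) = k 6 z`
  have h66 := k6_sq C hk S
  have h6z : α (k 6) = k 6 * z := by
    have hz := aut_z C α
    have h7 := hsg2 6 (by norm_num) rfl rfl rfl
    have h8 : k 7 = α (k 6) * k 6 * k 7 := by
      rcases h7 with h7 | h7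
      · calc k 7 = α (α (k 7)) := (hα _).symm
          _ = α (k 6) * (k 6 * k 7) := by rw [h7, map_mul, h7]
          _ = _ := by group
      · calc k 7 = α (α (k 7)) := (hα _).symm
          _ = α (k 6) * (k 6 * k 7 * z) * z := by rw [h7, map_mul, map_mul, h7, hz]
          _ = α (k 6) * k 6 * k 7 * (z * z) := by group
          _ = _ := by rw [C.zz, mul_one]
    have h9 : α (k 6) * k 6 = 1 := mul_eq_right.1 h8.symm
    calc α (k 6) = α (k 6) * (k 6 * (k 6 * z)) := by rw [← mul_assoc (k 6), h66, C.zz, mul_one]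
      _ = α (k 6) * k 6 * (k 6 * z) := by group
      _ = k 6 * z := by rw [h9, one_mul]
  have s11 : k 11 * k 11 = 1 := sq0 S rfl
  rcases hsg2 10 (by norm_num) rfl rfl rfl with h11 | h11
  · refine ⟨k 11, ?_, W, hWp, hWα, ?_⟩
    · rw [h11, mul_inv_cancel_right]; exact hk10ne
    · rw [h11, mul_inv_cancel_right]; exact m10
  · have h12 : α (k 11 * k 6) * (k 11 * k 6)⁻¹ = k 10 := by
      rw [map_mul, h11, h6z]
      calc k 10 * k 11 * z * (k 6 * z) * (k 11 * k 6)⁻¹
          = k 10 * k 11 * (z * k 6) * z * (k 6)⁻¹ * (k 11)⁻¹ := by group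
        _ = k 10 * k 11 * k 6 * (z * z) * (k 6)⁻¹ * (k 11)⁻¹ := by rw [C.zc]; group
        _ = k 10 := by rw [C.zz]; group
    refine ⟨k 11 * k 6, ?_, W, hWp, hWα, ?_⟩
    · rw [h12]; exact hk10ne
    · rw [h12]; exact m10

theorem out_K (hp : commutator K = ⊤) {α : MulAut K} (hα : ∀ x, α (α x) = x)
    (ho : ∀ c, α ≠ MulAut.conj c) :
    ∃ c, α c * c⁻¹ ≠ 1 ∧ ∃ W : Subgroup K, ⁅W, W⁆ = W ∧ (∀ w ∈ W, α w = w) ∧ α c * c⁻¹ ∈ W := by
  obtain ⟨β, hβ⟩ := exists_induced C α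
  have h1 : ∀ x, β (β x) = x := by
    intro x
    obtain ⟨y, rfl⟩ := C.surj x
    rw [hβ, hβ, hα]
  have h2 : ¬ ∃ c, ∀ x, β x = c * x * c⁻¹ := by
    rintro ⟨c, hc⟩
    obtain ⟨d, rfl⟩ := C.surj c
    exact ho d (inner_of_induced C hp fun x => by rw [← hβ, hc])
  obtain ⟨g, hg⟩ := A.outer_conj β h1 h2
  obtain ⟨y, rfl⟩ := C.surj g
  set γ : MulAut K := (MulAut.conj y)⁻¹ * α * MulAut.conj y with hγ
  have hγx : ∀ x, γ x = y⁻¹ * α (y * x * y⁻¹) * y := by
    intro x
    rw [hγ, MulAut.mul_apply, MulAut.mul_apply, ← map_inv, MulAut.conj_apply, MulAut.conj_apply, inv_inv]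
  obtain ⟨c, hc1, W, hW, hWγ, hcW⟩ := out_sg C hk S A hp (α := γ) (by
    intro x
    rw [hγx, hγx]
    have : y * (y⁻¹ * α (y * x * y⁻¹) * y) * y⁻¹ = α (y * x * y⁻¹) := by group
    rw [this, hα]
    group) (by
    intro x
    have e0 : π (y * x * y⁻¹) = π y * π x * (π y)⁻¹ := by rw [map_mul, map_mul, map_inv]
    have e1 : π (α (y * x * y⁻¹)) = β (π y * π x * (π y)⁻¹) := by rw [← hβ, e0]
    have e2 : (π y)⁻¹ * (π y * π x * (π y)⁻¹) * π y = π x := by group
    rw [hγx, map_mul, map_mul, map_inv, e1, hg, e2]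
    group)
  have h3 : α (y * c * y⁻¹) * (y * c * y⁻¹)⁻¹ = y * (γ c * c⁻¹) * y⁻¹ := by
    rw [hγx]; group
  refine ⟨y * c * y⁻¹, ?_, W.map (MulAut.conj y).toMonoidHom, ?_, ?_, ?_⟩
  · rw [h3]
    intro h
    apply hc1
    calc γ c * c⁻¹ = y⁻¹ * (y * (γ c * c⁻¹) * y⁻¹) * y := by group
      _ = 1 := by rw [h]; group
  · rw [← map_commutator, hW]
  · rintro _ ⟨w, hw, rfl⟩
    change α (y * w * y⁻¹) = y * w * y⁻¹
    have h4 := hWγ w hw
    rw [hγx] at h4
    calc α (y * w * y⁻¹) = y * (y⁻¹ * α (y * w * y⁻¹) * y) * y⁻¹ := by group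
      _ = _ := by rw [h4]
  · rw [h3]
    exact ⟨_, hcW, rfl⟩

end

/-- **The facts on perfect double covers of `G₂(4)`.** -/
theorem kfacts (C : Cov z π) (hp : commutator K = ⊤) {sg : MulAut L} (A : AutL sg) :
    Def.KFacts z := by
  obtain ⟨k, hk, S⟩ := exists_table_true C hp
  exact
    { zz := C.zz
      z1 := C.z1
      zc := fun y => (C.zc y).symm
      cen := fun x hx => cen_K C hx
      perf := hp
      conj := fun e e' h1 h2 h3 h4 h5 h6 => conj_inv_K C hk S h1 h2 h3 h4 h5 h6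
      cperf := fun e h1 h2 h3 => cperf_K C hk S h1 h2 h3
      label := fun e h1 h2 h3 θ => label_K C hk S h1 h2 h3 θ
      root := fun v hv => root_K C hk S hv
      out := fun α h1 h2 => out_K C hk S A hp h1 h2
      exp2 := fun α => exp2_K C hp A α }

end Cfsg.Agent.OddHalf.D9.G24.KFacts
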