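import Cfsg.Agent.OddHalf.D9.G24.OutL
import Cfsg.Agent.OddHalf.D9.G24.KFacts

/-!
# The facts on the automorphisms of `G₂(4)` for the row `2.G₂(4)` (helper928)
-/

set_option autoImplicit false

namespace Cfsg.Agent.OddHalf.D9.G24.OutL

open Subgroup
open Cfsg.Agent.StdG24.Mod6

/-- **The facts on the field automorphism.** -/
theorem autL_sg : KFacts.AutL sg where
  sg0 := sg_gx0
  sg1 := sg_gx1
  outer_conj := outer_conj
  sq_inner := sq_inner
  sub := by
    obtain ⟨Y, h1, h2, h3, h4, -⟩ := exists_Y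
    exact ⟨Y, h1, h2, h3, h4⟩

theorem autL : ∃ sg : MulAut L, KFacts.AutL sg := ⟨sg, autL_sg⟩

end Cfsg.Agent.OddHalf.D9.G24.OutL
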