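import Cfsg.Agent.OddHalf.D9.G24.Sf
import Cfsg.Agent.OddHalf.D9.G24.OutMain

/-!
# The rows `2.G₂(4)`: final statements
-/

set_option autoImplicit false

namespace Cfsg.Agent.OddHalf.D9.G24.Final

universe u

/-- **D9, row `2.G₂(4)`** (`Cut.Rows.g24`). -/
theorem g24 : Cut.Row.{u} (fun K _ => Cut.Two (fun X _ => Cut.XG24 X) K) := by
  obtain ⟨sg, A⟩ := OutL.autL
  exact Row.row A

/-- the K-facts of the kill for cyclic Sylow 2-subgroups of `C(K)` -/
theorem facts : KillRow.Facts.{u} (fun X _ => Cut.XG24 X) := by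
  obtain ⟨sg, A⟩ := OutL.autL
  exact Row.facts A

/-- the K-facts of the kill for arbitrary `C(K)` -/
theorem factsAny : KillAnyRow.FactsAny.{u} (fun X _ => Cut.XG24 X) := by
  obtain ⟨sg, A⟩ := OutL.autL
  exact Sf.factsAny A

/-- **The row `2.G₂(4)`, arbitrary centralizer** (D4 and D9). -/
theorem g24_any (ft : KillAnyRow.FT.{u}) :
    KillAnyRow.RowAny.{u} (fun K _ => Cut.Two (fun X _ => Cut.XG24 X) K) :=
  KillAnyRow.row_two_any ft (fun X _ _ _ _ h => Row.sch X h) factsAny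

end Cfsg.Agent.OddHalf.D9.G24.Final
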