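import Cfsg.Agent.OddHalf.D9.G24.Glue
import Cfsg.Agent.OddHalf.D9.KillRow
import Cfsg.Agent.OddHalf.D9.KillAny
import Cfsg.Agent.Schreier.Chev

/-!
# The row `2.G₂(4)` of D9

`NoBad z` and `Outer z` of `Kill` from `Def.KFacts z`; `row`: the row from `KillRow.row_two`.
-/

set_option autoImplicit false

namespace Cfsg.Agent.OddHalf.D9.G24.Row

open Subgroup Cfsg.Agent.OddHalf.D9.Kill Cfsg.Agent.OddHalf.Iface Cfsg.Agent.Schreier.Basic
open scoped commutatorElement

universe u

variable {K : Type u} [Group K] {z : K}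

theorem Ce_eq (f : K) : Ce f = centralizer ({f} : Set K) := by
  ext x
  rw [mem_Ce, mem_centralizer_singleton_iff]

theorem Pr_eq {S : Subgroup K} (h : ⁅S, S⁆ = S) : Pr S = S := le_antisymm (Pr_le _) (le_Pr le_rfl h)

theorem Pr_Ce (F : Def.KFacts z) {f : K} (hff : f * f = 1) (h1 : f ≠ 1) (hz : f ≠ z) :
    Pr (Ce f) = centralizer ({f} : Set K) := by
  rw [Ce_eq, Pr_eq (F.cperf f hff h1 hz)]

theorem res (F : Def.KFacts z) {f : K} (hff : f * f = 1) (h1 : f ≠ 1) (hz : f ≠ z) : z ∈ Pr (Ce f) := by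
  rw [Pr_Ce F hff h1 hz, mem_centralizer_singleton_iff]
  exact (F.zc f).symm

theorem cent_z (F : Def.KFacts z) (c : K) : centralizer ({c * z} : Set K) = centralizer ({c} : Set K) := by
  ext y
  rw [mem_centralizer_singleton_iff, mem_centralizer_singleton_iff]
  constructor
  · intro h
    have h1 : y * c * z = c * y * z := by
      calc y * c * z = y * (c * z) := by group
        _ = c * (z * y) := by rw [h]; group
        _ = c * y * z := by rw [← F.zc]; group
    exact mul_right_cancel h1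
  · intro h
    calc y * (c * z) = y * c * z := by group
      _ = c * (y * z) := by rw [h]; group
      _ = c * z * y := by rw [F.zc]; group

theorem noBad (F : Def.KFacts z) : NoBad z where
  res _ h1 h2 h3 := res F h1 h2 h3
  bad := by
    rintro f f' hff hf1 hfz hff' hf1' hfz' ⟨hf, hz, hf', hz', φ, h1, h2⟩
    obtain ⟨k, hk⟩ := F.conj f f' hff hf1 hfz hff' hf1' hfz'
    have hcent : centralizer ({k * f * k⁻¹} : Set K) = centralizer ({f'} : Set K) := by
      rcases hk with hk | hk
      · rw [hk]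
      · rw [hk, cent_z F]
    have hmem : ∀ y, y ∈ centralizer ({f'} : Set K) ↔ k⁻¹ * y * k ∈ centralizer ({f} : Set K) := by
      intro y
      rw [← hcent, mem_centralizer_singleton_iff, mem_centralizer_singleton_iff]
      constructor
      · intro h
        calc k⁻¹ * y * k * f = k⁻¹ * (y * (k * f * k⁻¹)) * k := by group
          _ = k⁻¹ * (k * f * k⁻¹ * y) * k := by rw [h]
          _ = _ := by group
      · intro h
        calc y * (k * f * k⁻¹) = k * (k⁻¹ * y * k * f) * k⁻¹ := by group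
          _ = k * (f * (k⁻¹ * y * k)) * k⁻¹ := by rw [h]
          _ = _ := by group
    let ψ : centralizer ({f'} : Set K) ≃* centralizer ({f} : Set K) :=
      { toFun := fun y => ⟨k⁻¹ * y * k, (hmem y).1 y.2⟩
        invFun := fun y => ⟨k * y * k⁻¹, (hmem _).2 (by
          have : k⁻¹ * (k * (y : K) * k⁻¹) * k = y := by group
          rw [this]; exact y.2)⟩
        left_inv := fun y => Subtype.ext (by
          change k * (k⁻¹ * (y : K) * k) * k⁻¹ = y
          group)
        right_inv := fun y => Subtype.ext (by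
          change k⁻¹ * (k * (y : K) * k⁻¹) * k = y
          group)
        map_mul' := fun a b => Subtype.ext (by
          change k⁻¹ * ((a : K) * b) * k = k⁻¹ * a * k * (k⁻¹ * b * k)
          group) }
    let e1 : ↥(Pr (Ce f)) ≃* centralizer ({f} : Set K) := MulEquiv.subgroupCongr (Pr_Ce F hff hf1 hfz)
    let e2 : ↥(Pr (Ce f')) ≃* centralizer ({f'} : Set K) := MulEquiv.subgroupCongr (Pr_Ce F hff' hf1' hfz')
    refine F.label f hff hf1 hfz ((e1.symm.trans φ).trans (e2.trans ψ)) ?_
    have h3 : e1.symm ⟨f, mem_centralizer_singleton_iff.2 rfl⟩ = ⟨f, hf⟩ := rfl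
    change ((ψ (e2 (φ (e1.symm ⟨f, mem_centralizer_singleton_iff.2 rfl⟩))) : centralizer ({f} : Set K)) : K) = z
    rw [h3, h1]
    change k⁻¹ * z * k = z
    rw [mul_assoc, ← F.zc k]
    group

/-- `z ∈ Pr (C(k))` for noncentral `k` with central square -/
theorem res_of_sq (F : Def.KFacts z) {k : K} (hk : ∃ x, k * x ≠ x * k) (hkk : ∀ x, k * k * x = x * (k * k)) :
    z ∈ Pr (Ce k) := by
  obtain ⟨x, hx⟩ := hk
  rcases F.cen (k * k) hkk with h | h
  · refine res F h ?_ ?_
    · rintro rfl; exact hx (by group)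
    · rintro rfl; exact hx (F.zc x).symm
  · obtain ⟨W, hW, hz, hc⟩ := F.root k h
    exact le_Pr (fun w hw => hc w hw) hW hz

/-- outer involutory automorphisms -/
theorem out (F : Def.KFacts z) {α : MulAut K} (hα : α * α = 1) (ho : ∀ k : K, α ≠ MulAut.conj k) :
    ∃ x ∈ Pr (Fx α), x ≠ 1 ∧ ∃ q : K, α q = q * x := by
  obtain ⟨k, h1, W, hW, hWα, hk⟩ := F.out α (fun x => by
    rw [← MulAut.mul_apply, hα, MulAut.one_apply]) ho
  refine ⟨(α k * k⁻¹)⁻¹, inv_mem (le_Pr (fun w hw => hWα w hw) hW hk), inv_ne_one.2 h1, k⁻¹, ?_⟩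
  rw [map_inv]
  group

theorem outer (F : Def.KFacts z) : Outer z := by
  intro α hα h1 hf
  by_cases ho : ∀ k : K, α ≠ MulAut.conj k
  · exact Or.inr (out F hα ho)
  push Not at ho
  obtain ⟨k, rfl⟩ := ho
  left
  rw [Fx_conj]
  have hkk : ∀ x, k * k * x = x * (k * k) := by
    intro x
    have h2 := DFunLike.congr_fun hα x
    rw [MulAut.mul_apply, MulAut.conj_apply, MulAut.conj_apply, MulAut.one_apply] at h2
    calc k * k * x = k * (k * x * k⁻¹) * k⁻¹ * (k * k) := by group
      _ = _ := by rw [h2]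
  refine res_of_sq F ?_ hkk
  by_contra hx
  push Not at hx
  apply h1
  ext x
  rw [MulAut.conj_apply, MulAut.one_apply, hx x]
  group

theorem kf (F : Def.KFacts z) : KillRow.KF z := ⟨Or.inr (noBad F), outer F⟩

/-! ### The row -/

theorem sch (X : Type u) [Group X] [Finite X] [IsSimpleGroup X] (h : Cut.XG24 X) : Sch X := by
  obtain ⟨F, i1, i2, hF, ⟨e⟩⟩ := h
  have : IsSimpleGroup ↥(Lie.chevG2.group F) := e.symm.isSimpleGroup
  exact Sch.of_equiv e.symm (Cfsg.Agent.Schreier.Chev.sch_g2 F)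

theorem facts {sg : MulAut Cfsg.Agent.StdG24.Mod6.L} (A : KFacts.AutL sg) :
    KillRow.Facts.{u} (fun X _ => Cut.XG24 X) := by
  intro L _ _ hq h2 hX c hc1 hcc hc
  have hp : commutator L = ⊤ := hq.1.commutator_eq_top
  obtain ⟨z, hz, F⟩ := Glue.exists_kfacts h2 hX hp A
  have : c = z := by
    rcases F.cen c hc with h | h
    · exact absurd h hc1
    · exact h
  rw [this]
  exact kf F

/-- **D9, row `2.G₂(4)`.** -/
theorem row {sg : MulAut Cfsg.Agent.StdG24.Mod6.L} (A : KFacts.AutL sg) :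
    Cut.Row.{u} (fun K _ => Cut.Two (fun X _ => Cut.XG24 X) K) :=
  KillRow.row_two (fun X _ _ _ _ h => sch X h) (facts A)

end Cfsg.Agent.OddHalf.D9.G24.Row
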