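import Mathlib

/-!
# Collection with tails

A verified collector for a group `K` with a central element `z`, `z² = 1`, and elements `k i` such that
`k i * k i = V (T i i)`, `k l * k i = k i * k l * V (T i l)` for `i < l`, where `V (L, m)` is the product of
the `k j`, `j ∈ L`, times `z^(parity of s over the bits of m)`. The signs `s` may be unknown: comparing two
collections of equal elements gives linear equations for `s`.
-/

set_option autoImplicit false
set_option linter.unusedVariables false

namespace Cfsg.Agent.OddHalf.D9.G24.Collect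

/-! ### Parities -/

/-- parity of `s` over the bits below `M` of `m` -/
def dot (s : ℕ → Bool) : ℕ → ℕ → Bool
  | 0, _ => false
  | M + 1, m => xor (m.testBit M && s M) (dot s M m)

theorem dot_xor (s : ℕ → Bool) (M m m' : ℕ) : dot s M (m ^^^ m') = xor (dot s M m) (dot s M m') := by
  induction M with
  | zero => rfl
  | succ M ih =>
    simp only [dot, ih, Nat.testBit_xor]
    cases m.testBit M <;> cases m'.testBit M <;> cases s M <;> cases dot s M m <;>
      cases dot s M m' <;> rfl

theorem dot_zero (s : ℕ → Bool) (M : ℕ) : dot s M 0 = false := by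
  induction M with
  | zero => rfl
  | succ M ih => simp [dot, ih]

theorem dot_two_pow (s : ℕ → Bool) {M j : ℕ} (h : j < M) : dot s M (2 ^ j) = s j := by
  induction M with
  | zero => exact absurd h (Nat.not_lt_zero j)
  | succ M ih =>
    simp only [dot, Nat.testBit_two_pow]
    by_cases hj : j = M
    · subst hj
      have h0 : ∀ N ≤ j, dot s N (2 ^ j) = false := by
        intro N
        induction N with
        | zero => intro _; rfl
        | succ N ihN =>
          intro hN
          simp only [dot, Nat.testBit_two_pow, ihN (by omega)]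
          have : decide (j = N) = false := decide_eq_false (by omega)
          simp [this]
      simp [h0 j le_rfl]
    · have : decide (j = M) = false := decide_eq_false hj
      rw [this, ih (by omega)]
      simp

/-- xor of the selected members of a list -/
def xorSel : List ℕ → ℕ → ℕ
  | [], _ => 0
  | a :: l, c => cond (c.testBit 0) (a ^^^ xorSel l (c / 2)) (xorSel l (c / 2))

theorem dot_xorSel (s : ℕ → Bool) (M : ℕ) {l : List ℕ} (h : ∀ a ∈ l, dot s M a = false) (c : ℕ) :
    dot s M (xorSel l c) = false := by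
  induction l generalizing c with
  | nil => exact dot_zero s M
  | cons a l ih =>
    have h1 := ih (fun b hb => h b (List.mem_cons_of_mem _ hb)) (c / 2)
    have h2 := h a List.mem_cons_self
    unfold xorSel
    cases c.testBit 0
    · exact h1
    · change dot s M (a ^^^ xorSel l (c / 2)) = false
      rw [dot_xor, h1, h2]; rfl

variable {K : Type*} [Group K]

/-- `z ^ b` -/
def zb (z : K) (b : Bool) : K := cond b z 1

theorem zb_xor {z : K} (hz : z * z = 1) (a b : Bool) : zb z (xor a b) = zb z a * zb z b := by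
  cases a <;> cases b <;> simp [zb, hz]

theorem zb_comm {z : K} (hz : ∀ x, z * x = x * z) (a : Bool) (x : K) : zb z a * x = x * zb z a := by
  cases a
  · simp [zb]
  · exact hz x

theorem zb_inj {z : K} (hz : z ≠ 1) {a b : Bool} (h : zb z a = zb z b) : a = b := by
  cases a <;> cases b
  · rfl
  · exact absurd h.symm hz
  · exact absurd h hz
  · rfl

/-- value of a word -/
def vl (k : ℕ → K) (L : List ℕ) : K := (L.map k).prod

@[simp] theorem vl_nil (k : ℕ → K) : vl k [] = 1 := rfl

@[simp] theorem vl_cons (k : ℕ → K) (j : ℕ) (L : List ℕ) : vl k (j :: L) = k j * vl k L := by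
  simp [vl]

theorem vl_append (k : ℕ → K) (L L' : List ℕ) : vl k (L ++ L') = vl k L * vl k L' := by
  simp [vl]

/-- value of a word with a mask -/
def V (z : K) (k : ℕ → K) (s : ℕ → Bool) (M : ℕ) (p : List ℕ × ℕ) : K := vl k p.1 * zb z (dot s M p.2)

/-- The relations of a collection system. -/
structure Sys (z : K) (k : ℕ → K) (s : ℕ → Bool) (M : ℕ) (T : ℕ → ℕ → List ℕ × ℕ) : Prop where
  zz : z * z = 1
  zc : ∀ x, z * x = x * z
  sq : ∀ i, k i * k i = V z k s M (T i i)
  cm : ∀ i l, i < l → k l * k i = k i * k l * V z k s M (T i l)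

/-! ### The collector -/

section Coll

variable {α : Type}

/-- all members of the list are bigger than `i` -/
def allGt (i : ℕ) (L : List ℕ) : Bool :=
  List.rec (motive := fun _ => Bool) true (fun a _ ih => cond (Nat.blt i a) ih false) L

theorem allGt_spec {i : ℕ} {L : List ℕ} (h : allGt i L = true) : ∀ a ∈ L, i < a := by
  induction L with
  | nil => intro a ha; exact absurd ha (by simp)
  | cons b L ih =>
    have h1 : allGt i (b :: L) = cond (Nat.blt i b) (allGt i L) false := rfl
    rw [h1] at h
    cases hb : Nat.blt i b with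
    | false => rw [hb] at h; exact absurd h Bool.false_ne_true
    | true =>
      rw [hb] at h
      intro a ha
      rcases List.mem_cons.1 ha with rfl | ha
      · rw [Nat.blt_eq] at hb; exact hb
      · exact ih h a ha

/-- insert the letters of a word -/
def words (g : List ℕ → ℕ → ℕ → (List ℕ → ℕ → α) → α) (ws : List ℕ) :
    List ℕ → ℕ → (List ℕ → ℕ → α) → α :=
  List.rec (motive := fun _ => List ℕ → ℕ → (List ℕ → ℕ → α) → α) (fun L m κ => κ L m)
    (fun w _ ih L m κ => g L w m (fun L' m' => ih L' m' κ)) ws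

/-- insert the letters of a word, which passes the letter `i` -/
def pass (g : List ℕ → ℕ → ℕ → (List ℕ → ℕ → α) → α) (T : ℕ → ℕ → List ℕ × ℕ) (i : ℕ)
    (ls : List ℕ) : List ℕ → ℕ → (List ℕ → ℕ → α) → α :=
  List.rec (motive := fun _ => List ℕ → ℕ → (List ℕ → ℕ → α) → α) (fun L m κ => κ L m)
    (fun l _ ih L m κ => g L l m (fun L1 m1 => words g (T i l).1 L1 (Nat.xor m1 (T i l).2)
      (fun L2 m2 => ih L2 m2 κ))) ls

/-- insert one letter on the right -/
def ins (T : ℕ → ℕ → List ℕ × ℕ) (f : ℕ) : List ℕ → ℕ → ℕ → (List ℕ → ℕ → α) → α :=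
  Nat.rec (motive := fun _ => List ℕ → ℕ → ℕ → (List ℕ → ℕ → α) → α)
    (fun L i m κ => κ (L ++ [i]) m)
    (fun _ g L i m => List.rec (motive := fun _ => (List ℕ → ℕ → α) → α)
      (fun κ => κ [i] m)
      (fun j L ih κ =>
        cond (Nat.blt j i) (ih (fun L' m' => κ (j :: L') m'))
          (cond (Nat.beq j i)
            (cond (allGt i L) (words g (T i i).1 [] (Nat.xor m (T i i).2)
              (fun L0 m0 => pass g T i L L0 m0 κ)) (κ (j :: L ++ [i]) m))
            (cond (allGt i (j :: L)) (pass g T i (j :: L) [i] m κ) (κ (j :: L ++ [i]) m)))) L) f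

variable {z : K} {k : ℕ → K} {s : ℕ → Bool} {M : ℕ} {T : ℕ → ℕ → List ℕ × ℕ}

/-- `g` inserts a letter -/
def Good (z : K) (k : ℕ → K) (s : ℕ → Bool) (M : ℕ) (g : List ℕ → ℕ → ℕ → (List ℕ → ℕ → α) → α) : Prop :=
  ∀ L i m κ, ∃ L' m', g L i m κ = κ L' m' ∧ V z k s M (L', m') = V z k s M (L, m) * k i

theorem V_mul (S : Sys z k s M T) (L : List ℕ) (m : ℕ) (x : K) :
    V z k s M (L, m) * x = vl k L * x * zb z (dot s M m) := by
  rw [V, mul_assoc, zb_comm S.zc, mul_assoc]

theorem V_xor (S : Sys z k s M T) (L : List ℕ) (m m' : ℕ) :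
    V z k s M (L, Nat.xor m m') = V z k s M (L, m) * zb z (dot s M m') := by
  have : dot s M (Nat.xor m m') = xor (dot s M m) (dot s M m') := dot_xor s M m m'
  rw [V, V, this, zb_xor S.zz, mul_assoc]

theorem words_spec {g : List ℕ → ℕ → ℕ → (List ℕ → ℕ → α) → α} (hg : Good z k s M g) (ws : List ℕ)
    (L : List ℕ) (m : ℕ) (κ : List ℕ → ℕ → α) :
    ∃ L' m', words g ws L m κ = κ L' m' ∧ V z k s M (L', m') = V z k s M (L, m) * vl k ws := by
  induction ws generalizing L m with
  | nil => exact ⟨L, m, rfl, by rw [vl_nil, mul_one]⟩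
  | cons w ws ih =>
    obtain ⟨L1, m1, h1, h2⟩ := hg L w m (fun L' m' => words g ws L' m' κ)
    obtain ⟨L2, m2, h3, h4⟩ := ih L1 m1
    refine ⟨L2, m2, h1.trans h3, ?_⟩
    rw [h4, h2, vl_cons, mul_assoc]

theorem pass_spec (S : Sys z k s M T) {g : List ℕ → ℕ → ℕ → (List ℕ → ℕ → α) → α}
    (hg : Good z k s M g) (i : ℕ) (ls : List ℕ) (hls : ∀ a ∈ ls, i < a)
    (L : List ℕ) (m : ℕ) (κ : List ℕ → ℕ → α) (x : K) (hx : V z k s M (L, m) = x * k i) :
    ∃ L' m', pass g T i ls L m κ = κ L' m' ∧ V z k s M (L', m') = x * (vl k ls * k i) := by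
  induction ls generalizing L m x with
  | nil => exact ⟨L, m, rfl, by rw [vl_nil, one_mul]; exact hx⟩
  | cons l ls ih =>
    obtain ⟨L1, m1, h1, h2⟩ := hg L l m (fun L1 m1 => words g (T i l).1 L1 (Nat.xor m1 (T i l).2)
      (fun L2 m2 => pass g T i ls L2 m2 κ))
    obtain ⟨L2, m2, h3, h4⟩ := words_spec hg (T i l).1 L1 (Nat.xor m1 (T i l).2)
      (fun L2 m2 => pass g T i ls L2 m2 κ)
    have h5 : V z k s M (L2, m2) = x * k l * k i := by
      rw [h4, V_xor S, h2, hx, mul_assoc x (k l), S.cm i l (hls l List.mem_cons_self), V]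
      simp only [mul_assoc]
      rw [zb_comm S.zc]
    obtain ⟨L3, m3, h6, h7⟩ := ih (fun a ha => hls a (List.mem_cons_of_mem _ ha)) L2 m2 (x * k l) h5
    refine ⟨L3, m3, h1.trans (h3.trans h6), ?_⟩
    rw [h7, vl_cons]
    simp only [mul_assoc]

theorem ins_good (S : Sys z k s M T) (f : ℕ) : Good z k s M (ins (α := α) T f) := by
  induction f with
  | zero =>
    intro L i m κ
    refine ⟨L ++ [i], m, rfl, ?_⟩
    rw [V_mul S, V, vl_append]
    simp
  | succ f ih =>
    intro L i m κ
    induction L generalizing κ with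
    | nil =>
      refine ⟨[i], m, rfl, ?_⟩
      rw [V_mul S, V]
      simp
    | cons j L ihL =>
      have happ : ∃ L' m', κ (j :: L ++ [i]) m = κ L' m' ∧
          V z k s M (L', m') = V z k s M (j :: L, m) * k i := by
        refine ⟨j :: L ++ [i], m, rfl, ?_⟩
        rw [V_mul S, V, vl_append]
        simp
      have hdef : ins T (f + 1) (j :: L) i m κ = cond (Nat.blt j i)
          (ins T (f + 1) L i m (fun L' m' => κ (j :: L') m'))
          (cond (Nat.beq j i)
            (cond (allGt i L) (words (ins T f) (T i i).1 [] (Nat.xor m (T i i).2)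
              (fun L0 m0 => pass (ins T f) T i L L0 m0 κ)) (κ (j :: L ++ [i]) m))
            (cond (allGt i (j :: L)) (pass (ins T f) T i (j :: L) [i] m κ)
              (κ (j :: L ++ [i]) m))) := rfl
      rw [hdef]
      cases hb : Nat.blt j i with
      | true =>
        rw [cond_true]
        obtain ⟨L', m', h1, h2⟩ := ihL (fun L' m' => κ (j :: L') m')
        refine ⟨j :: L', m', h1, ?_⟩
        have h3 : V z k s M (j :: L', m') = k j * V z k s M (L', m') := by
          rw [V, V, vl_cons, mul_assoc]
        have h4 : V z k s M (j :: L, m) = k j * V z k s M (L, m) := by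
          rw [V, V, vl_cons, mul_assoc]
        rw [h3, h2, h4, mul_assoc]
      | false =>
        rw [cond_false]
        cases he : Nat.beq j i with
        | true =>
          rw [cond_true]
          have hji : j = i := by rwa [Nat.beq_eq] at he
          cases ha : allGt i L with
          | false => rw [cond_false]; exact happ
          | true =>
            rw [cond_true]
            obtain ⟨L0, m0, h1, h2⟩ := words_spec ih (T i i).1 [] (Nat.xor m (T i i).2)
              (fun L0 m0 => pass (ins T f) T i L L0 m0 κ)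
            have h3 : V z k s M (L0, m0) = zb z (dot s M m) * k i * k i := by
              rw [h2, V_xor S, mul_assoc _ (k i), S.sq i, V, V, vl_nil, one_mul]
              simp only [mul_assoc]
              rw [zb_comm S.zc (dot s M (T i i).2)]
            obtain ⟨L1, m1, h4, h5⟩ := pass_spec S ih i L (allGt_spec ha) L0 m0 κ _ h3
            refine ⟨L1, m1, h1.trans h4, ?_⟩
            rw [h5, V_mul S, vl_cons, hji, mul_assoc (zb z _), zb_comm S.zc]
            simp only [mul_assoc]
        | false =>
          rw [cond_false]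
          cases ha : allGt i (j :: L) with
          | false => rw [cond_false]; exact happ
          | true =>
            rw [cond_true]
            obtain ⟨L1, m1, h4, h5⟩ := pass_spec S ih i (j :: L) (allGt_spec ha) [i] m κ
              (zb z (dot s M m)) (by rw [V, vl_cons, vl_nil, mul_one, zb_comm S.zc])
            refine ⟨L1, m1, h4, ?_⟩
            rw [h5, V_mul S, zb_comm S.zc]

/-! ### Comparing two collections -/

/-- equality of words -/
def eqF (C : List ℕ) : List ℕ → Bool :=
  List.rec (motive := fun _ => List ℕ → Bool) (fun D => List.rec true (fun _ _ _ => false) D)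
    (fun c _ ih D => List.rec false (fun d ds _ => cond (Nat.beq c d) (ih ds) false) D) C

theorem eqF_spec {C D : List ℕ} (h : eqF C D = true) : C = D := by
  induction C generalizing D with
  | nil =>
    cases D with
    | nil => rfl
    | cons d ds => exact absurd (show false = true from h) (by decide)
  | cons c cs ih =>
    cases D with
    | nil => exact absurd (show false = true from h) (by decide)
    | cons d ds =>
      have h1 : cond (Nat.beq c d) (eqF cs ds) false = true := h
      cases hb : Nat.beq c d with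
      | false => rw [hb] at h1; exact absurd h1 Bool.false_ne_true
      | true =>
        rw [hb] at h1
        rw [Nat.beq_eq] at hb
        rw [hb, ih h1]

/-- collect a list of words with masks -/
def coll (T : ℕ → ℕ → List ℕ × ℕ) (f : ℕ) (ps : List (List ℕ × ℕ)) :
    List ℕ → ℕ → (List ℕ → ℕ → α) → α :=
  List.rec (motive := fun _ => List ℕ → ℕ → (List ℕ → ℕ → α) → α) (fun L m κ => κ L m)
    (fun p _ ih L m κ => words (ins T f) p.1 L (Nat.xor m p.2) (fun L' m' => ih L' m' κ)) ps

/-- value of a list of words with masks -/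
def VV (z : K) (k : ℕ → K) (s : ℕ → Bool) (M : ℕ) (ps : List (List ℕ × ℕ)) : K :=
  (ps.map (V z k s M)).prod

@[simp] theorem VV_nil : VV z k s M [] = 1 := rfl

@[simp] theorem VV_cons (p : List ℕ × ℕ) (ps : List (List ℕ × ℕ)) :
    VV z k s M (p :: ps) = V z k s M p * VV z k s M ps := by simp [VV]

theorem VV_append (ps qs : List (List ℕ × ℕ)) :
    VV z k s M (ps ++ qs) = VV z k s M ps * VV z k s M qs := by simp [VV]

theorem coll_spec (S : Sys z k s M T) (f : ℕ) (ps : List (List ℕ × ℕ)) (L : List ℕ) (m : ℕ)
    (κ : List ℕ → ℕ → α) :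
    ∃ L' m', coll T f ps L m κ = κ L' m' ∧ V z k s M (L', m') = V z k s M (L, m) * VV z k s M ps := by
  induction ps generalizing L m with
  | nil => exact ⟨L, m, rfl, by rw [VV_nil, mul_one]⟩
  | cons p ps ih =>
    obtain ⟨L1, m1, h1, h2⟩ := words_spec (ins_good S f) p.1 L (Nat.xor m p.2)
      (fun L' m' => coll T f ps L' m' κ)
    obtain ⟨L2, m2, h3, h4⟩ := ih L1 m1
    refine ⟨L2, m2, h1.trans h3, ?_⟩
    rw [h4, h2, V_xor S, VV_cons, mul_assoc (V z k s M (L, m)), zb_comm S.zc]
    simp only [V, mul_assoc]

/-- the two collections agree, and their masks differ by `e` -/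
def chk (T : ℕ → ℕ → List ℕ × ℕ) (f : ℕ) (ps qs : List (List ℕ × ℕ)) (e : ℕ) : Bool :=
  coll T f ps [] 0 fun L m => coll T f qs [] 0 fun L' m' =>
    cond (eqF L L') (Nat.beq (Nat.xor m m') e) false

theorem chk_spec (S : Sys z k s M T) {f : ℕ} {ps qs : List (List ℕ × ℕ)} {e : ℕ}
    (h : chk T f ps qs e = true) : VV z k s M ps = VV z k s M qs * zb z (dot s M e) := by
  obtain ⟨L, m, h1, h2⟩ := coll_spec S f ps [] 0 (fun L m => coll T f qs [] 0 fun L' m' =>
    cond (eqF L L') (Nat.beq (Nat.xor m m') e) false)
  obtain ⟨L', m', h3, h4⟩ := coll_spec S f qs [] 0 (fun L' m' =>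
    cond (eqF L L') (Nat.beq (Nat.xor m m') e) false)
  unfold chk at h
  rw [h1, h3] at h
  have h0 : V z k s M ([], 0) = 1 := by rw [V, vl_nil, dot_zero]; simp [zb]
  rw [h0, one_mul] at h2 h4
  cases he : eqF L L' with
  | false => rw [he] at h; exact absurd h Bool.false_ne_true
  | true =>
    rw [he, cond_true, Nat.beq_eq] at h
    have hL := eqF_spec he
    have hm : m = Nat.xor m' e := by
      rw [← h]
      change m = m' ^^^ (m ^^^ m')
      rw [Nat.xor_comm m m', ← Nat.xor_assoc, Nat.xor_self, Nat.zero_xor]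
    rw [← h2, ← h4, hL, hm, V_xor S]

theorem dot_of_chk (S : Sys z k s M T) (hz1 : z ≠ 1) {f : ℕ} {ps qs : List (List ℕ × ℕ)} {e : ℕ}
    (h : chk T f ps qs e = true) (heq : VV z k s M ps = VV z k s M qs) : dot s M e = false := by
  have h1 := chk_spec S h
  rw [heq] at h1
  have h2 : zb z (dot s M e) = zb z false := by
    have h3 := mul_eq_left.1 h1.symm
    rw [h3]; rfl
  exact zb_inj hz1 h2

end Coll

end Cfsg.Agent.OddHalf.D9.G24.Collect
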