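import Cfsg.Agent.OddHalf.D9.G24.Tab

/-!
# Double covers of `G₂(4)`: the table of the Sylow 2-subgroup

For every central extension `π : K → L` (`L = G₂(4)`, the model of `StdG24.Mod6`) with kernel `{1, z}` there
are lifts `k i` of the twelve generators of the Sylow 2-subgroup with the multiplication table `T0`,
with one parameter `ε`.
-/

set_option autoImplicit false
set_option linter.unusedVariables false

namespace Cfsg.Agent.OddHalf.D9.G24.Cover

open Cfsg.Agent.StdG24.Mod6 Cfsg.Agent.OddHalf.D9.G24.Collect Cfsg.Agent.OddHalf.D9.G24.Tab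

variable {K : Type*} [Group K] {z : K} {π : K →* L}

/-- a central extension of `G₂(4)` by a group `{1, z}` of order 2 -/
structure Cov (z : K) (π : K →* L) : Prop where
  surj : Function.Surjective π
  pz : π z = 1
  ker : ∀ x, π x = 1 → x = 1 ∨ x = z
  z1 : z ≠ 1
  zc : ∀ x, z * x = x * z

namespace Cov

variable (C : Cov z π)

include C

theorem zz : z * z = 1 := by
  rcases C.ker (z * z) (by rw [map_mul, C.pz, mul_one]) with h | h
  · exact h
  · exact absurd (mul_eq_left.1 h) C.z1

theorem eq_or {x y : K} (h : π x = π y) : x = y ∨ x = y * z := by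
  rcases C.ker (y⁻¹ * x) (by rw [map_mul, map_inv, h, inv_mul_cancel]) with h1 | h1
  · left; exact (inv_mul_eq_one.1 h1).symm
  · right; rw [← h1, mul_inv_cancel_left]

end Cov

/-- the sign of `x` against `y` -/
noncomputable def sg (x y : K) : Bool := by
  classical
  exact decide (x ≠ y)

theorem eq_sg (C : Cov z π) {x y : K} (h : π x = π y) : x = y * zb z (sg x y) := by
  classical
  by_cases hxy : x = y
  · have : sg x y = false := by rw [sg]; exact decide_eq_false (fun h => h hxy)
    rw [this, hxy]; simp [zb]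
  · have : sg x y = true := by rw [sg]; exact decide_eq_true hxy
    rw [this]
    rcases C.eq_or h with h1 | h1
    · exact absurd h1 hxy
    · exact h1

/-- the root element of a generator -/
def gen (i : ℕ) : L := ⟨gx (rt i) (tt i), gx_mem _ _⟩

theorem gw_append (A B : List ℕ) : gw (A ++ B) = gw A ++ gw B := by simp [gw]

/-- lifts of the generators -/
structure Lifts (π : K →* L) (k : ℕ → K) : Prop where
  lift : ∀ i < 12, π (k i) = gen i
  one : ∀ i, 12 ≤ i → k i = 1

theorem Lifts.coe_vl {k : ℕ → K} (h : Lifts π k) {A : List ℕ} (hA : ∀ l ∈ A, l < 12) :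
    (π (vl k A) : GL6) = ev (gw A) := by
  induction A with
  | nil => simp [gw, ev_nil]
  | cons a A ih =>
    rw [vl_cons, map_mul, Subgroup.coe_mul, ih (fun l hl => hA l (List.mem_cons_of_mem _ hl)),
      h.lift a (hA a List.mem_cons_self)]
    rfl

theorem exists_lifts (C : Cov z π) : ∃ k : ℕ → K, Lifts π k := by
  classical
  refine ⟨fun i => if i < 12 then (C.surj (gen i)).choose else 1, ?_, ?_⟩
  · intro i hi
    simp only [if_pos hi]
    exact (C.surj (gen i)).choose_spec
  · intro i hi
    simp only [if_neg (Nat.not_lt.2 hi)]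

/-- the reflections in the model -/
def nL (g : ℕ) : L := ⟨ev (nw g), ev_mem _⟩

/-- the unknown signs -/
noncomputable def sgn (k : ℕ → K) (n : ℕ → K) (v : ℕ) : Bool :=
  if v < 144 then
    if v / 12 = v % 12 then sg (k (v / 12) * k (v / 12)) 1
    else sg (k (v % 12) * k (v / 12)) (k (v / 12) * k (v % 12) * vl k (W (v / 12) (v % 12)))
  else
    sg (n ((v - 144) / 12) * k ((v - 144) % 12) * (n ((v - 144) / 12))⁻¹)
      (vl k (im ((v - 144) / 12) ((v - 144) % 12)).1)

theorem blt_true {a b : ℕ} (h : a < b) : Nat.blt a b = true := by rw [Nat.blt_eq]; exact h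

theorem two_pow_lt {i j : ℕ} (hi : i < 12) (hj : j < 12) : 12 * i + j < 192 := by omega

theorem sys1 (C : Cov z π) {k : ℕ → K} (h : Lifts π k) (n : ℕ → K) :
    Sys z k (sgn k n) 192 T1 where
  zz := C.zz
  zc := C.zc
  sq := by
    intro i
    rw [V]
    by_cases hi : i < 12
    · have h1 : (T1 i i).2 = 2 ^ (12 * i + i) := by
        change cond (Nat.blt i 12) (2 ^ (12 * i + i)) 0 = _
        rw [blt_true hi]; rfl
      have h2 : (T1 i i).1 = [] := W_diag i
      rw [h1, h2, vl_nil, one_mul, dot_two_pow _ (two_pow_lt hi hi)]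
      have h3 : sgn k n (12 * i + i) = sg (k i * k i) 1 := by
        unfold sgn
        rw [if_pos (by omega), if_pos (by omega)]
        have : (12 * i + i) / 12 = i := by omega
        rw [this]
      rw [h3]
      have h4 := eq_sg C (x := k i * k i) (y := 1) (by
        rw [map_mul, map_one, h.lift i hi]
        apply Subtype.ext
        exact gx_sq _ _)
      rwa [one_mul] at h4
    · have h1 : (T1 i i).2 = 0 := by
        change cond (Nat.blt i 12) (2 ^ (12 * i + i)) 0 = _
        have : Nat.blt i 12 = false := by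
          rw [← Bool.not_eq_true, Nat.blt_eq]; exact hi
        rw [this]; rfl
      have h2 : (T1 i i).1 = [] := W_diag i
      rw [h1, h2, h.one i (Nat.not_lt.1 hi), dot_zero]
      simp [zb]
  cm := by
    intro i l hil
    rw [V]
    by_cases hl : l < 12
    · have hi : i < 12 := hil.trans hl
      have h1 : (T1 i l).2 = 2 ^ (12 * i + l) := by
        change cond (Nat.blt l 12) (2 ^ (12 * i + l)) 0 = _
        rw [blt_true hl]; rfl
      rw [h1, dot_two_pow _ (two_pow_lt hi hl)]
      have h3 : sgn k n (12 * i + l) = sg (k l * k i) (k i * k l * vl k (W i l)) := by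
        unfold sgn
        have e1 : (12 * i + l) / 12 = i := by omega
        have e2 : (12 * i + l) % 12 = l := by omega
        rw [e1, e2, if_pos (by omega), if_neg (by omega)]
      rw [h3]
      change k l * k i = k i * k l * (vl k (W i l) * _)
      rw [← mul_assoc]
      apply eq_sg C
      apply Subtype.ext
      have h4 : k l * k i = vl k [l, i] := by simp
      have h5 : k i * k l * vl k (W i l) = vl k ([i, l] ++ W i l) := by simp [mul_assoc]
      rw [h4, h5, h.coe_vl (by simp; omega), h.coe_vl]
      · exact ev_eq_of (W_cm i hi l hl hil)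
      · intro x hx
        rcases List.mem_append.1 hx with hx | hx
        · simp at hx; omega
        · exact W_lt i hi l hl x hx
    · have h1 : (T1 i l).2 = 0 := by
        change cond (Nat.blt l 12) (2 ^ (12 * i + l)) 0 = _
        have : Nat.blt l 12 = false := by
          rw [← Bool.not_eq_true, Nat.blt_eq]; exact hl
        rw [this]; rfl
      have h2 : (T1 i l).1 = [] := W_ge i l (Nat.not_lt.1 hl)
      rw [h1, h2, h.one l (Nat.not_lt.1 hl), dot_zero]
      simp [zb]

theorem auto_V (C : Cov z π) {k : ℕ → K} (h : Lifts π k) {n : ℕ → K} (hn : ∀ g, π (n g) = nL g)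
    {g i : ℕ} (hg : g < 2) (hi : i ∈ dom g) :
    V z k (sgn k n) 192 (im g i) = n g * k i * (n g)⁻¹ := by
  have hi12 := dom_lt g hg i hi
  rw [V]
  have h1 : (im g i).2 = 2 ^ (144 + 12 * g + i) := rfl
  rw [h1, dot_two_pow _ (by omega)]
  have h3 : sgn k n (144 + 12 * g + i) = sg (n g * k i * (n g)⁻¹) (vl k (im g i).1) := by
    unfold sgn
    have e1 : (144 + 12 * g + i - 144) / 12 = g := by omega
    have e2 : (144 + 12 * g + i - 144) % 12 = i := by omega
    rw [e1, e2, if_neg (by omega)]
  rw [h3]
  refine (eq_sg C ?_).symm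
  apply Subtype.ext
  rw [h.coe_vl (im_lt g hg i hi), map_mul, map_mul, map_inv, hn, h.lift i hi12]
  have h4 : (nL g * gen i * (nL g)⁻¹ : L) = (⟨ev (nw g ++ gw [i] ++ (nw g).reverse), ev_mem _⟩ : L) := by
    apply Subtype.ext
    change ev (nw g) * gx (rt i) (tt i) * (ev (nw g))⁻¹ = ev (nw g ++ gw [i] ++ (nw g).reverse)
    rw [ev_append, ev_append, ev_reverse]
    have : ev (gw [i]) = gx (rt i) (tt i) := ev_singleton _
    rw [this]
  rw [h4]
  exact ev_eq_of (im_check g hg i hi)

theorem VV_map (C : Cov z π) {k : ℕ → K} (h : Lifts π k) {n : ℕ → K} (hn : ∀ g, π (n g) = nL g)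
    {g : ℕ} (hg : g < 2) {A : List ℕ} (hA : ∀ l ∈ A, l ∈ dom g) :
    VV z k (sgn k n) 192 (A.map (im g)) = n g * vl k A * (n g)⁻¹ := by
  induction A with
  | nil => simp
  | cons a A ih =>
    rw [List.map_cons, VV_cons, ih (fun l hl => hA l (List.mem_cons_of_mem _ hl)),
      auto_V C h hn hg (hA a List.mem_cons_self), vl_cons]
    group

theorem dot_EQ (C : Cov z π) {k : ℕ → K} (h : Lifts π k) {n : ℕ → K} (hn : ∀ g, π (n g) = nL g) :
    ∀ e ∈ EQ, dot (sgn k n) 192 e = false := by
  have S := sys1 C h n
  intro e he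
  rcases List.mem_append.1 he with he | he
  · obtain ⟨⟨i, j, l, m⟩, hm, rfl⟩ := List.mem_map.1 he
    have hc := EQT_ok _ hm
    unfold chkT at hc
    simp only at hc
    cases hb : Nat.blt i j with
    | true =>
      rw [hb, cond_true] at hc
      rw [Nat.blt_eq] at hb
      refine dot_of_chk S C.z1 hc ?_
      simp only [VV_cons, VV_nil, mul_one]
      have h1 := S.cm i j hb
      have h0 : ∀ A : List ℕ, V z k (sgn k n) 192 (A, 0) = vl k A := by
        intro A
        rw [V, dot_zero]; simp [zb]
      rw [h0, h0]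
      simp only [vl_cons, vl_nil, mul_one, mul_assoc]
      rw [h1]
      simp only [mul_assoc]
    | false =>
      rw [hb, cond_false] at hc
      cases hb2 : Nat.beq i j with
      | false => rw [hb2] at hc; exact absurd hc Bool.false_ne_true
      | true =>
        rw [hb2, cond_true] at hc
        rw [Nat.beq_eq] at hb2
        subst hb2
        refine dot_of_chk S C.z1 hc ?_
        simp only [VV_cons, VV_nil, mul_one]
        have h1 := S.sq i
        have h0 : ∀ A : List ℕ, V z k (sgn k n) 192 (A, 0) = vl k A := by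
          intro A
          rw [V, dot_zero]; simp [zb]
        rw [h0, h0]
        simp only [vl_cons, vl_nil, mul_one]
        rw [h1]
  · obtain ⟨⟨g, i, j, m⟩, hm, rfl⟩ := List.mem_map.1 he
    have hc := EQA_ok _ hm
    obtain ⟨hg, hi, hj⟩ := EQA_dom _ hm
    simp only at hg hi hj
    unfold chkA at hc
    simp only at hc
    have hi12 := dom_lt g hg i hi
    have hj12 := dom_lt g hg j hj
    cases hb : Nat.blt i j with
    | true =>
      rw [hb, cond_true] at hc
      rw [Nat.blt_eq] at hb
      refine dot_of_chk S C.z1 hc ?_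
      rw [VV_append, VV_append, VV_map C h hn hg (W_dom g hg i hi j hj hb)]
      simp only [VV_cons, VV_nil, mul_one]
      rw [auto_V C h hn hg hi, auto_V C h hn hg hj]
      have h1 := S.cm i j hb
      have h2 : V z k (sgn k n) 192 ([], 2 ^ (12 * i + j)) =
          zb z (dot (sgn k n) 192 (2 ^ (12 * i + j))) := by rw [V, vl_nil, one_mul]
      have h3 : (T1 i j).2 = 2 ^ (12 * i + j) := by
        change cond (Nat.blt j 12) (2 ^ (12 * i + j)) 0 = _
        rw [blt_true hj12]; rfl
      have h4 : V z k (sgn k n) 192 (T1 i j) =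
          vl k (W i j) * zb z (dot (sgn k n) 192 (2 ^ (12 * i + j))) := by
        rw [V, h3]; rfl
      rw [h4] at h1
      rw [h2]
      calc n g * k j * (n g)⁻¹ * (n g * k i * (n g)⁻¹) = n g * (k j * k i) * (n g)⁻¹ := by group
        _ = n g * (k i * k j * vl k (W i j)) *
            (zb z (dot (sgn k n) 192 (2 ^ (12 * i + j))) * (n g)⁻¹) := by rw [h1]; group
        _ = _ := by rw [zb_comm C.zc]; group
    | false =>
      rw [hb, cond_false] at hc
      cases hb2 : Nat.beq i j with
      | false => rw [hb2] at hc; exact absurd hc Bool.false_ne_true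
      | true =>
        rw [hb2, cond_true] at hc
        rw [Nat.beq_eq] at hb2
        subst hb2
        refine dot_of_chk S C.z1 hc ?_
        simp only [VV_cons, VV_nil, mul_one]
        rw [auto_V C h hn hg hi]
        have h1 := S.sq i
        have h3 : (T1 i i).2 = 2 ^ (13 * i) := by
          change cond (Nat.blt i 12) (2 ^ (12 * i + i)) 0 = _
          rw [blt_true hi12, cond_true]
          congr 1; ring
        have h5 : (T1 i i).1 = [] := W_diag i
        have h4 : V z k (sgn k n) 192 (T1 i i) = V z k (sgn k n) 192 ([], 2 ^ (13 * i)) := by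
          rw [V, V, h3, h5]
        rw [h4] at h1
        have h6 : V z k (sgn k n) 192 ([], 2 ^ (13 * i)) =
          zb z (dot (sgn k n) 192 (2 ^ (13 * i))) := by rw [V, vl_nil, one_mul]
        rw [h6] at h1 ⊢
        calc n g * k i * (n g)⁻¹ * (n g * k i * (n g)⁻¹) = n g * (k i * k i) * (n g)⁻¹ := by group
          _ = n g * (zb z (dot (sgn k n) 192 (2 ^ (13 * i))) * (n g)⁻¹) := by rw [h1]; group
          _ = _ := by rw [zb_comm C.zc]; group

/-- **The table of the Sylow 2-subgroup of a double cover of `G₂(4)`.** -/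
theorem exists_table (C : Cov z π) : ∃ (k : ℕ → K) (ε : Bool), Lifts π k ∧
    Sys z k (fun _ => ε) 1 T0 := by
  obtain ⟨k, h⟩ := exists_lifts C
  have hN : ∀ g, ∃ x, π x = nL g := fun g => C.surj _
  choose n hn using hN
  have S := sys1 C h n
  have hEQ := dot_EQ C h hn
  set s := sgn k n with hs
  -- the new lifts
  let k' : ℕ → K := fun l => k l * zb z (dot s 192 (nth 0 AM l))
  have hk' : ∀ l, k' l = k l * zb z (dot s 192 (nth 0 AM l)) := fun l => rfl
  have hA : ∀ i, 12 ≤ i → nth 0 AM i = 0 := by
    intro i hi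
    obtain ⟨m, rfl⟩ := Nat.exists_eq_add_of_le hi
    rw [Nat.add_comm]; rfl
  have hvl : ∀ A : List ℕ, vl k' A = vl k A * zb z (dot s 192 (am A)) := by
    intro A
    induction A with
    | nil => simp [am, dot_zero, zb]
    | cons a A ih =>
      have h1 : am (a :: A) = nth 0 AM a ^^^ am A := rfl
      rw [vl_cons, vl_cons, ih, h1, dot_xor, zb_xor C.zz, hk']
      calc k a * zb z (dot s 192 (nth 0 AM a)) * (vl k A * zb z (dot s 192 (am A)))
          = k a * (zb z (dot s 192 (nth 0 AM a)) * vl k A) * zb z (dot s 192 (am A)) := by group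
        _ = _ := by rw [zb_comm C.zc]; group
  have hL' : Lifts π k' := by
    refine ⟨fun i hi => ?_, fun i hi => ?_⟩
    · rw [hk', map_mul, h.lift i hi]
      have : π (zb z (dot s 192 (nth 0 AM i))) = 1 := by
        cases dot s 192 (nth 0 AM i)
        · exact map_one π
        · exact C.pz
      rw [this, mul_one]
    · rw [hk', h.one i hi, hA i hi, dot_zero]
      simp [zb]
  -- the signs
  set ε := s 0 with hε
  have hs0 : ∀ i < 12, ∀ j < 12, i ≤ j →
      dot s 192 (2 ^ (12 * i + j)) = xor (dot s 192 (am (W i j))) (dot (fun _ => ε) 1 (s0 i j)) := by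
    intro i hi j hj hij
    have h1 := dot_xorSel s 192 hEQ (nth 0 (nth [] CERT i) j)
    rw [cert_ok i hi j hj hij, dot_xor, dot_xor] at h1
    have hx : ∀ a b c : Bool, xor (xor a b) c = false → a = xor b c := by decide
    have h2 : dot s 192 (s0 i j) = dot (fun _ => ε) 1 (s0 i j) := by
      rcases s0_le i hi j hj with h3 | h3
      · rw [h3, dot_zero, dot_zero]
      · rw [h3]
        have h4 : dot s 192 1 = s 0 := dot_two_pow s (M := 192) (j := 0) (by norm_num)
        have h5 : dot (fun _ => ε) 1 1 = ε := dot_two_pow (fun _ => ε) (M := 1) (j := 0) (by norm_num)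
        rw [h4, h5]
    rw [← h2]
    exact hx _ _ _ h1
  refine ⟨k', ε, hL', C.zz, C.zc, ?_, ?_⟩
  · intro i
    by_cases hi : i < 12
    · have h1 := S.sq i
      have h3 : (T1 i i).2 = 2 ^ (12 * i + i) := by
        change cond (Nat.blt i 12) (2 ^ (12 * i + i)) 0 = _
        rw [blt_true hi]; rfl
      rw [V, h3, hs0 i hi i hi le_rfl] at h1
      have h5 : (T1 i i).1 = [] := W_diag i
      have h6 : (T0 i i).1 = [] := W_diag i
      have h7 : am (W i i) = 0 := by rw [W_diag]; rfl
      rw [h5, h7, dot_zero, Bool.false_xor, vl_nil, one_mul] at h1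
      rw [V, h6, vl_nil, one_mul, hk']
      calc k i * zb z (dot s 192 (nth 0 AM i)) * (k i * zb z (dot s 192 (nth 0 AM i)))
          = k i * (zb z (dot s 192 (nth 0 AM i)) * k i) * zb z (dot s 192 (nth 0 AM i)) := by group
        _ = (k i * k i) * (zb z (dot s 192 (nth 0 AM i)) * zb z (dot s 192 (nth 0 AM i))) := by
            rw [zb_comm C.zc]; group
        _ = k i * k i := by
            rw [← zb_xor C.zz, Bool.xor_self]; simp [zb]
        _ = _ := h1
    · have h6 : (T0 i i).1 = [] := W_diag i
      have h7 : (T0 i i).2 = 0 := by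
        obtain ⟨m, rfl⟩ := Nat.exists_eq_add_of_le (Nat.not_lt.1 hi)
        have h1 : nth [] S0 (12 + m) = [] := by
          rw [Nat.add_comm]; rfl
        change nth 0 (nth [] S0 (12 + m)) (12 + m) = 0
        rw [h1]; rfl
      rw [V, h6, h7, hL'.one i (Nat.not_lt.1 hi), dot_zero]
      simp [zb]
  · intro i l hil
    by_cases hl : l < 12
    · have hi : i < 12 := hil.trans hl
      have h1 := S.cm i l hil
      have h3 : (T1 i l).2 = 2 ^ (12 * i + l) := by
        change cond (Nat.blt l 12) (2 ^ (12 * i + l)) 0 = _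
        rw [blt_true hl]; rfl
      have h5 : (T1 i l).1 = W i l := rfl
      rw [V, h3, h5, hs0 i hi l hl hil.le, zb_xor C.zz] at h1
      have h6 : (T0 i l).1 = W i l := rfl
      have h7 : (T0 i l).2 = s0 i l := rfl
      rw [V, h6, h7, hvl, hk', hk']
      set a := zb z (dot s 192 (nth 0 AM i)) with ha
      set b := zb z (dot s 192 (nth 0 AM l)) with hb
      have hac : ∀ x, a * x = x * a := fun x => zb_comm C.zc _ x
      have hbc : ∀ x, b * x = x * b := fun x => zb_comm C.zc _ x
      have e1 : k l * b * (k i * a) = k l * k i * (a * b) := by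
        calc k l * b * (k i * a) = k l * (b * k i) * a := by group
          _ = k l * k i * (b * a) := by rw [hbc]; group
          _ = _ := by rw [hbc a]
      have e2 : ∀ X : K, k i * a * (k l * b) * X = k i * k l * X * (a * b) := by
        intro X
        calc k i * a * (k l * b) * X = k i * (a * k l) * (b * X) := by group
          _ = k i * k l * (a * X) * b := by rw [hac, hbc]; group
          _ = _ := by rw [hac]; group
      rw [e1, e2, h1]
      simp only [mul_assoc]
    · have h6 : (T0 i l).1 = [] := W_ge i l (Nat.not_lt.1 hl)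
      have h7 : (T0 i l).2 = 0 := by
        obtain ⟨m, rfl⟩ := Nat.exists_eq_add_of_le (Nat.not_lt.1 hl)
        change nth 0 (nth [] S0 i) (12 + m) = 0
        rw [Nat.add_comm]
        by_cases hi : i < 12
        · interval_cases i <;> rfl
        · obtain ⟨q, rfl⟩ := Nat.exists_eq_add_of_le (Nat.not_lt.1 hi)
          have h1 : nth [] S0 (12 + q) = [] := by
            rw [Nat.add_comm]; rfl
          rw [h1]; rfl
      rw [V, h6, h7, hL'.one l (Nat.not_lt.1 hl), dot_zero]
      simp [zb]

end Cfsg.Agent.OddHalf.D9.G24.Cover
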