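import Mathlib

/-!
# The facts on `K = 2.G₂(4)` used at the level of `G`

Proved for every perfect central extension of `G₂(4)` by a group of order two in `G24/KFacts.lean`.
-/

set_option autoImplicit false

namespace Cfsg.Agent.OddHalf.D9.G24.Def

open Subgroup
open scoped commutatorElement

/-- Facts on a perfect double cover `K` (centre `{1, z}`) of `G₂(4)`. -/
structure KFacts {K : Type*} [Group K] (z : K) : Prop where
  zz : z * z = 1
  z1 : z ≠ 1
  zc : ∀ y : K, y * z = z * y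
  cen : ∀ x : K, (∀ y, x * y = y * x) → x = 1 ∨ x = z
  perf : ⁅(⊤ : Subgroup K), (⊤ : Subgroup K)⁆ = ⊤
  /-- the involutions different from `z` are conjugate up to `z` -/
  conj : ∀ e e' : K, e * e = 1 → e ≠ 1 → e ≠ z → e' * e' = 1 → e' ≠ 1 → e' ≠ z →
    ∃ k : K, k * e * k⁻¹ = e' ∨ k * e * k⁻¹ = e' * z
  /-- their centralizers are perfect -/
  cperf : ∀ e : K, e * e = 1 → e ≠ 1 → e ≠ z →
    ⁅centralizer ({e} : Set K), centralizer ({e} : Set K)⁆ = centralizer ({e} : Set K)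
  /-- no automorphism of `C(e)` maps `e` to `z` -/
  label : ∀ e : K, e * e = 1 → e ≠ 1 → e ≠ z →
    ∀ θ : centralizer ({e} : Set K) ≃* centralizer ({e} : Set K),
      ((θ ⟨e, mem_centralizer_singleton_iff.2 rfl⟩ : centralizer ({e} : Set K)) : K) ≠ z
  /-- a square root of `z` commutes with a perfect subgroup containing `z` -/
  root : ∀ v : K, v * v = z → ∃ W : Subgroup K, ⁅W, W⁆ = W ∧ z ∈ W ∧ ∀ w ∈ W, w * v = v * w
  /-- an outer involutory automorphism `α`: some `c = α(k) k⁻¹ ≠ 1` lies in a perfect subgroup of `C(α)` -/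
  out : ∀ α : MulAut K, (∀ x, α (α x) = x) → (∀ k, α ≠ MulAut.conj k) →
    ∃ k, α k * k⁻¹ ≠ 1 ∧ ∃ W : Subgroup K, ⁅W, W⁆ = W ∧ (∀ w ∈ W, α w = w) ∧ α k * k⁻¹ ∈ W
  /-- `Out(K)` has exponent (at most) two -/
  exp2 : ∀ α : MulAut K, ∃ k, α * α = MulAut.conj k

end Cfsg.Agent.OddHalf.D9.G24.Def
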