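import Cfsg.Agent.OddHalf.D9.G24.KFacts
import Cfsg.Agent.OddHalf.D9.Cut
import Cfsg.Agent.StdG24.Iso6

/-!
# From `K / Z(K) ≅ G₂(4)`, `|Z(K)| = 2` to the model
-/

set_option autoImplicit false

namespace Cfsg.Agent.OddHalf.D9.G24.Glue

open Subgroup
open Cfsg.Agent.StdG24.Mod6 Cfsg.Agent.OddHalf.D9.G24.Cover

universe u

/-- a group with centre of order two and central quotient `G₂(4)` -/
theorem exists_cov {K : Type u} [Group K] (hc : Nat.card ↥(center K) = 2)
    (hX : Cut.XG24 (K ⧸ center K)) : ∃ (z : K) (π : K →* L), Cov z π ∧ ∀ x, π x = 1 ↔ x ∈ center K := by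
  obtain ⟨F, i1, i2, hF, ⟨e⟩⟩ := hX
  obtain ⟨f⟩ := Cfsg.Agent.StdG24.Iso6.equiv_chev F hF
  let π : K →* L := (e.trans f.symm).toMonoidHom.comp (QuotientGroup.mk' (center K))
  have hπ : ∀ x, π x = 1 ↔ x ∈ center K := by
    intro x
    change (e.trans f.symm) (QuotientGroup.mk' (center K) x) = 1 ↔ _
    rw [map_eq_one_iff _ (e.trans f.symm).injective]
    exact QuotientGroup.eq_one_iff x
  have hcc : (center K : Set K).ncard = 2 := hc
  obtain ⟨a, b, hab, hs⟩ := Set.ncard_eq_two.1 hcc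
  -- the nontrivial element
  obtain ⟨z, hz1, hz⟩ : ∃ z : K, z ≠ 1 ∧ (center K : Set K) = {1, z} := by
    have h1 : (1 : K) ∈ (center K : Set K) := one_mem _
    rw [hs] at h1
    rcases h1 with h | h
    · exact ⟨b, fun hb => hab (h.symm.trans hb.symm), by rw [hs, ← h]⟩
    · have h' : (1 : K) = b := h
      exact ⟨a, fun ha => hab (ha.trans h'), by rw [hs, ← h', Set.pair_comm]⟩
  have hzc : z ∈ center K := by
    have : z ∈ (center K : Set K) := by rw [hz]; exact Or.inr rfl
    exact this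
  refine ⟨z, π, ⟨?_, (hπ z).2 hzc, ?_, hz1, fun x => (mem_center_iff.1 hzc x).symm⟩, hπ⟩
  · intro y
    obtain ⟨x, hx⟩ := QuotientGroup.mk'_surjective (center K) ((e.trans f.symm).symm y)
    exact ⟨x, by change (e.trans f.symm) (QuotientGroup.mk' (center K) x) = y; rw [hx]; simp⟩
  · intro x hx
    have h1 : x ∈ (center K : Set K) := (hπ x).1 hx
    rw [hz] at h1
    exact h1

/-- **The K-facts of a perfect group with centre of order two and central quotient `G₂(4)`.** -/
theorem exists_kfacts {K : Type u} [Group K] (hc : Nat.card ↥(center K) = 2)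
    (hX : Cut.XG24 (K ⧸ center K)) (hp : commutator K = ⊤) {sg : MulAut L} (A : KFacts.AutL sg) :
    ∃ z : K, z ∈ center K ∧ Def.KFacts z := by
  obtain ⟨z, π, C, hπ⟩ := exists_cov hc hX
  exact ⟨z, (hπ z).1 C.pz, KFacts.kfacts C hp A⟩

end Cfsg.Agent.OddHalf.D9.G24.Glue
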