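import Cfsg.Agent.GTwoFour.MdlQ2
import Cfsg.Agent.GTwoFour.MdlPF
import Cfsg.Agent.StdG24.Cls6

/-!
# Facts on `G₂(4)` (six-dimensional model) for the double cover
-/

set_option autoImplicit false
set_option linter.unusedVariables false

namespace Cfsg.Agent.OddHalf.D9.G24.InvL

open Subgroup
open scoped commutatorElement
open Cfsg.Agent.StdG24.Mod6
open Cfsg.Agent.StdG24.Inv6 (zE vE)
open Cfsg.Agent.GTwoFour.Mdl

/-! ### Commutators in `Q1` -/

/-- disjunction -/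
def orF (a b : Bool) : Bool := Bool.rec b true a

theorem orF_spec {a b : Bool} (h : orF a b = true) : a = true ∨ b = true := by
  cases a
  · exact Or.inr h
  · exact Or.inl rfl

/-- the root elements of `Q1` -/
def Q1e : List (Fin 12 × Fin 3) := [(6, 0), (6, 1), (6, 2), (8, 0), (8, 1), (8, 2), (9, 0), (9, 1), (9, 2),
  (10, 0), (10, 1), (10, 2)]

/-- some root element `x` satisfies `[C, x] = x_11(s)` -/
def anyC (C : List ℕ) (s : Fin 3) : Bool :=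
  anyF Q1e fun p => mulF C (xc p.1 p.2) fun E => mulF (xc p.1 p.2) C fun F =>
    mulF (xc 11 s) F fun G => eqF E G

theorem comm_check : allN [6, 8, 9, 10, 11] idC (fun C => orF (siftF [11] C)
    (andF (anyC C 0) (anyC C 1))) = true := by decide +kernel

theorem anyC_spec {C : List ℕ} {q : GL6} (hC : Cd q C) {s : Fin 3} (h : anyC C s = true) :
    ∃ y ∈ Q1, ⁅q, y⁆ = gx 11 s := by
  obtain ⟨p, hp, h1⟩ := anyF_spec h
  rw [mulF_eq, mulF_eq, mulF_eq, eqF_iff] at h1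
  have h2 := (hC.mul (Cd_gx p.1 p.2)).inj
    (h1 ▸ (Cd_gx 11 s).mul ((Cd_gx p.1 p.2).mul hC))
  have hpr : ∀ p ∈ Q1e, p.1 ∈ ([6, 8, 9, 10, 11] : List (Fin 12)) := by decide
  refine ⟨gx p.1 p.2, Q1_rs _ (hpr p hp) (gx_mem_X _ _), ?_⟩
  rw [commutatorElement_def, h2]
  group

/-- an element of `Q1` outside `X 11` has all the elements of `X 11` as commutators -/
theorem exists_comm {q : GL6} (hq : q ∈ Q1) (hq' : q ∉ X 11) :
    (∃ y ∈ Q1, ⁅q, y⁆ = gx 11 0) ∧ ∃ y ∈ Q1, ⁅q, y⁆ = gx 11 1 := by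
  obtain ⟨C, hC, h1⟩ := allN_one comm_check q (Q1_PS hq)
  rcases orF_spec h1 with h | h
  · exact absurd (siftF_sound (N := X 11) (by simp) hC h) hq'
  · obtain ⟨h2, h3⟩ := andF_iff.1 h
    exact ⟨anyC_spec hC h2, anyC_spec hC h3⟩

/-! ### Classes of involutions -/

/-- the reflections -/
def na : GL6 := ev [(7, 0), (4, 0), (7, 0)]
def nb : GL6 := ev [(6, 0), (5, 0), (6, 0)]

theorem na_mem : na ∈ L := ev_mem _
theorem nb_mem : nb ∈ L := ev_mem _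

theorem n_check : cw ([(6, 0), (5, 0), (6, 0)] ++ ([(7, 0), (4, 0), (7, 0)] ++ [(6, 0)] ++
    [(7, 0), (4, 0), (7, 0)]) ++ [(6, 0), (5, 0), (6, 0)]) = cw [(11, 0)] := by decide +kernel

/-- every involution is conjugate to `gx 11 0` or to `gx 9 0` -/
theorem conj_inv {t : GL6} (ht : t ∈ L) (htt : t * t = 1) (ht1 : t ≠ 1) :
    (∃ g ∈ L, g * t * g⁻¹ = gx 11 0) ∨ ∃ g ∈ L, g * t * g⁻¹ = gx 9 0 := by
  rcases Cfsg.Agent.StdG24.Cls6.conj_z_or_v ht htt ht1 with ⟨g, hg, h⟩ | ⟨g, hg, h⟩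
  · left
    refine ⟨nb * na * g, mul_mem (mul_mem nb_mem na_mem) hg, ?_⟩
    have h1 : nb * na * g * t * (nb * na * g)⁻¹ = nb * (na * (g * t * g⁻¹) * na⁻¹) * nb⁻¹ := by group
    rw [h1, h]
    have h2 : na⁻¹ = ev [(7, 0), (4, 0), (7, 0)] := (ev_reverse [(7, 0), (4, 0), (7, 0)]).symm
    have h3 : nb⁻¹ = ev [(6, 0), (5, 0), (6, 0)] := (ev_reverse [(6, 0), (5, 0), (6, 0)]).symm
    have h4 : zE = ev [(6, 0)] := (ev_singleton (6, 0)).symm
    rw [h2, h3, h4, na, nb, ← ev_append, ← ev_append, ← ev_append, ← ev_append, ← ev_singleton (11, 0)]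
    exact ev_eq_of n_check
  · exact Or.inr ⟨g, hg, h⟩

/-! ### A perfect subgroup commuting with `gx 9 0` -/

/-- `⟨X 5, X 6, X 10⟩ = 2^4 : SL₂(4)` -/
def Y : Subgroup GL6 := closure {g | ∃ r ∈ ([5, 6, 10] : List (Fin 12)), ∃ t : Fin 3, g = gx r t}

theorem gx_mem_Y {r : Fin 12} (hr : r ∈ ([5, 6, 10] : List (Fin 12))) (t : Fin 3) : gx r t ∈ Y :=
  subset_closure ⟨r, hr, t, rfl⟩

theorem Y_le_L : Y ≤ L := (closure_le _).2 (by rintro _ ⟨r, -, t, rfl⟩; exact gx_mem r t)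

theorem ev_mem_Y {w : Wd} (h : ∀ p ∈ w, p.1 ∈ ([5, 6, 10] : List (Fin 12))) : ev w ∈ Y := by
  induction w with
  | nil => exact one_mem _
  | cons p w ih =>
    have h1 : ev (p :: w) = gx p.1 p.2 * ev w := rfl
    rw [h1]
    exact mul_mem (gx_mem_Y (h p List.mem_cons_self) _) (ih fun q hq => h q (List.mem_cons_of_mem _ hq))

/-- the torus element of `⟨X 5, X 6⟩` -/
def hb : Wd := [(6, 1), (5, 2), (6, 1), (6, 0), (5, 0), (6, 0)]

theorem Y_check : ∀ r ∈ ([5, 6, 10] : List (Fin 12)), ∀ t : Fin 3, ∃ t' : Fin 3,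
    cw (cmw hb [(r, t')]) = cw [(r, t)] := by decide +kernel

theorem Y_perfect : Y ≤ ⁅Y, Y⁆ := by
  refine (closure_le _).2 ?_
  rintro _ ⟨r, hr, t, rfl⟩
  obtain ⟨t', h⟩ := Y_check r hr t
  have h1 : gx r t = ⁅ev hb, ev [(r, t')]⁆ := by
    rw [← ev_cmw, ← ev_singleton (r, t)]
    exact (ev_eq_of h).symm
  rw [SetLike.mem_coe, h1]
  refine commutator_mem_commutator (ev_mem_Y (by decide)) ?_
  rw [ev_singleton]
  exact gx_mem_Y hr t'

end Cfsg.Agent.OddHalf.D9.G24.InvL
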