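import Cfsg.Agent.OddHalf.D9.G24.Split
import Cfsg.Agent.OddHalf.D9.G24.InvL
import Cfsg.Agent.OddHalf.D9.G24.Def

/-!
# Perfect double covers of `G₂(4)`: inner facts

Classes of involutions, centralizers, the label of `z`, square roots of `z`.
-/

set_option autoImplicit false
set_option linter.unusedVariables false
set_option linter.unusedSectionVars false

namespace Cfsg.Agent.OddHalf.D9.G24.Inner

open Subgroup
open scoped commutatorElement
open Cfsg.Agent.StdG24.Mod6 Cfsg.Agent.OddHalf.D9.G24.Collect Cfsg.Agent.OddHalf.D9.G24.Tab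
  Cfsg.Agent.OddHalf.D9.G24.Cover Cfsg.Agent.OddHalf.D9.G24.Split Cfsg.Agent.OddHalf.D9.G24.InvL
open Cfsg.Agent.GTwoFour.Mdl (X P Q1 gx_mem_X X_cases X_sq mem_P_of_comm perfect_P P_le_of_X core_P
  center_Q1 cent_Q1Z Q1_rs sq_Q1 X_le_L P_le_L Q1_le_P)

variable {K : Type*} [Group K] {z : K} {π : K →* L}

/-! ### Images and preimages -/

/-- image in `GL6` -/
def img (π : K →* L) (H : Subgroup K) : Subgroup GL6 := (H.map π).map L.subtype

/-- preimage of a subgroup of `GL6` -/
def pre (π : K →* L) (B : Subgroup GL6) : Subgroup K := (B.subgroupOf L).comap π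

theorem mem_pre {B : Subgroup GL6} {x : K} : x ∈ pre π B ↔ (π x : GL6) ∈ B := Iff.rfl

theorem mem_img {H : Subgroup K} {g : GL6} : g ∈ img π H ↔ ∃ h ∈ H, (π h : GL6) = g := by
  constructor
  · rintro ⟨_, ⟨h, hh, rfl⟩, rfl⟩
    exact ⟨h, hh, rfl⟩
  · rintro ⟨h, hh, rfl⟩
    exact ⟨_, ⟨h, hh, rfl⟩, rfl⟩

theorem coe_mem_img {H : Subgroup K} {h : K} (hh : h ∈ H) : (π h : GL6) ∈ img π H :=
  mem_img.2 ⟨h, hh, rfl⟩

section

variable (C : Cov z π)

include C

theorem eq_or' {x y : K} (h : (π x : GL6) = π y) : x = y ∨ x = y * z := C.eq_or (Subtype.ext h)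

theorem mem_of_img {H : Subgroup K} (hz : z ∈ H) {x : K} (hx : (π x : GL6) ∈ img π H) : x ∈ H := by
  obtain ⟨h, hh, he⟩ := mem_img.1 hx
  rcases eq_or' C he.symm with h1 | h1
  · rw [h1]; exact hh
  · rw [h1]; exact mul_mem hh hz

theorem exists_lift (g : GL6) (hg : g ∈ L) : ∃ x : K, (π x : GL6) = g := by
  obtain ⟨x, hx⟩ := C.surj ⟨g, hg⟩
  exact ⟨x, by rw [hx]⟩

theorem img_pre {B : Subgroup GL6} (hB : B ≤ L) : img π (pre π B) = B := by
  ext g
  rw [mem_img]
  constructor
  · rintro ⟨x, hx, rfl⟩; exact hx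
  · intro hg
    obtain ⟨x, hx⟩ := exists_lift C g (hB hg)
    exact ⟨x, by rw [mem_pre, hx]; exact hg, hx⟩

theorem z_mem_pre (B : Subgroup GL6) : z ∈ pre π B := by
  rw [mem_pre, C.pz]; exact one_mem _

theorem perfect_pre {B : Subgroup GL6} (hBL : B ≤ L) (hB : B ≤ ⁅B, B⁆)
    (hz : z ∈ ⁅pre π B, pre π B⁆) : ⁅pre π B, pre π B⁆ = pre π B := by
  refine le_antisymm (commutator_le_self _) ?_
  intro x hx
  refine mem_of_img C hz ?_
  have h1 : img π ⁅pre π B, pre π B⁆ = ⁅B, B⁆ := by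
    rw [img, map_commutator, map_commutator]
    change ⁅img π (pre π B), img π (pre π B)⁆ = _
    rw [img_pre C hBL]
  rw [h1]
  exact hB hx

/-- lifts commuting up to `z` normalise the centralizer -/
theorem norm_cent {c n : K} (h : n * c * n⁻¹ = c ∨ n * c * n⁻¹ = c * z) {x : K}
    (hx : x ∈ centralizer ({c} : Set K)) : n * x * n⁻¹ ∈ centralizer ({c} : Set K) := by
  rw [mem_centralizer_singleton_iff] at hx ⊢
  have hzc := C.zc
  have h1 : n * x * n⁻¹ * (n * c * n⁻¹) = n * c * n⁻¹ * (n * x * n⁻¹) := by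
    calc n * x * n⁻¹ * (n * c * n⁻¹) = n * (x * c) * n⁻¹ := by group
      _ = n * (c * x) * n⁻¹ := by rw [hx]
      _ = _ := by group
  rcases h with h | h
  · rwa [h] at h1
  · rw [h] at h1
    have h2 : n * x * n⁻¹ * c * z = c * (n * x * n⁻¹) * z := by
      calc n * x * n⁻¹ * c * z = n * x * n⁻¹ * (c * z) := by group
        _ = c * z * (n * x * n⁻¹) := h1
        _ = c * (z * (n * x * n⁻¹)) := by group
        _ = _ := by rw [hzc]; group
    exact mul_right_cancel h2

end

/-! ### The table -/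

/-- the table with `ε = 1` -/
abbrev Tb (z : K) (k : ℕ → K) : Prop := Sys z k (fun _ => true) 1 T0

theorem cm0 {k : ℕ → K} (S : Tb z k) {i l : ℕ} {A : List ℕ} (hil : i < l) (h : T0 i l = (A, 0)) :
    k l * k i = k i * k l * vl k A := by
  have h1 := S.cm i l hil
  have h2 : V z k (fun _ => true) 1 (T0 i l) = vl k A := by
    rw [h, V]
    have : dot (fun _ => true) 1 0 = false := by decide
    simp [this, zb]
  rw [h1, h2]

theorem cm1 {k : ℕ → K} (S : Tb z k) {i l : ℕ} {A : List ℕ} (hil : i < l) (h : T0 i l = (A, 1)) :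
    k l * k i = k i * k l * vl k A * z := by
  have h1 := S.cm i l hil
  have h2 : V z k (fun _ => true) 1 (T0 i l) = vl k A * z := by
    rw [h, V]
    have : dot (fun _ => true) 1 1 = true := by decide
    simp [this, zb]
  rw [h1, h2, ← mul_assoc]

theorem sq0 {k : ℕ → K} (S : Tb z k) {i : ℕ} (h : T0 i i = ([], 0)) : k i * k i = 1 := by
  rw [S.sq i, h, V]
  have : dot (fun _ => true) 1 0 = false := by decide
  simp [this, zb]

theorem sq1 {k : ℕ → K} (S : Tb z k) {i : ℕ} (h : T0 i i = ([], 1)) : k i * k i = z := by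
  rw [S.sq i, h, V]
  have : dot (fun _ => true) 1 1 = true := by decide
  simp [this, zb]

section

variable (C : Cov z π) {k : ℕ → K} (hk : Lifts π k) (S : Tb z k)

include C hk S

theorem k10_sq : k 10 * k 10 = 1 := sq0 S rfl

theorem k6_sq : k 6 * k 6 = z := sq1 S rfl

theorem coe_k {i : ℕ} (hi : i < 12) : (π (k i) : GL6) = gx (rt i) (tt i) := by
  rw [hk.lift i hi]; rfl

/-- the lift of `na` -/
theorem exists_na : ∃ n : K, (π n : GL6) = na := exists_lift C _ na_mem

theorem exists_nb : ∃ n : K, (π n : GL6) = nb := exists_lift C _ nb_mem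

end

theorem na_conj (t : Fin 3) : na * gx 7 t * na⁻¹ = gx 4 t ∧ na * gx 11 t * na⁻¹ = gx 11 t := by
  have h0 : na⁻¹ = ev [(7, 0), (4, 0), (7, 0)] := (ev_reverse [(7, 0), (4, 0), (7, 0)]).symm
  have hc : ∀ t : Fin 3, cw ([(7, 0), (4, 0), (7, 0)] ++ [(7, t)] ++ [(7, 0), (4, 0), (7, 0)]) =
      cw [(4, t)] ∧ cw ([(7, 0), (4, 0), (7, 0)] ++ [(11, t)] ++ [(7, 0), (4, 0), (7, 0)]) =
        cw [(11, t)] := by decide +kernel
  rw [h0, na, ← ev_singleton (7, t), ← ev_singleton (4, t), ← ev_singleton (11, t), ← ev_append,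
    ← ev_append, ← ev_append, ← ev_append]
  exact ⟨ev_eq_of (hc t).1, ev_eq_of (hc t).2⟩

theorem nb_conj (t : Fin 3) : nb * gx 6 t * nb⁻¹ = gx 5 t ∧ nb * gx 9 t * nb⁻¹ = gx 9 t := by
  have h0 : nb⁻¹ = ev [(6, 0), (5, 0), (6, 0)] := (ev_reverse [(6, 0), (5, 0), (6, 0)]).symm
  have hc : ∀ t : Fin 3, cw ([(6, 0), (5, 0), (6, 0)] ++ [(6, t)] ++ [(6, 0), (5, 0), (6, 0)]) =
      cw [(5, t)] ∧ cw ([(6, 0), (5, 0), (6, 0)] ++ [(9, t)] ++ [(6, 0), (5, 0), (6, 0)]) =
        cw [(9, t)] := by decide +kernel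
  rw [h0, nb, ← ev_singleton (6, t), ← ev_singleton (5, t), ← ev_singleton (9, t), ← ev_append,
    ← ev_append, ← ev_append, ← ev_append]
  exact ⟨ev_eq_of (hc t).1, ev_eq_of (hc t).2⟩

/-- `X r ≤ B` from the two generators -/
theorem X_le_of {r : Fin 12} {B : Subgroup GL6} (h0 : gx r 0 ∈ B) (h1 : gx r 1 ∈ B) : X r ≤ B := by
  intro x hx
  rcases X_cases hx with rfl | ⟨t, rfl⟩
  · exact one_mem _
  · have h6 : ∀ r : Fin 12, cw [(r, 2)] = cw [(r, 0), (r, 1)] := by decide +kernel
    match t with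
    | 0 => exact h0
    | 1 => exact h1
    | 2 =>
      have h7 : gx r 2 = gx r 0 * gx r 1 := by
        have := ev_eq_of (h6 r)
        rw [ev_singleton] at this
        rw [this, show [(r, (0 : Fin 3)), (r, 1)] = [(r, 0)] ++ [(r, 1)] from rfl, ev_append,
          ev_singleton, ev_singleton]
      rw [h7]; exact mul_mem h0 h1

section

variable (C : Cov z π) {k : ℕ → K} (hk : Lifts π k) (S : Tb z k)

include C hk S

theorem k10_comm {i : ℕ} (hi : i < 12) : k i * k 10 = k 10 * k i := by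
  have h : ∀ i < 10, T0 i 10 = ([], 0) := by decide +kernel
  rcases lt_trichotomy i 10 with h1 | h1 | h1
  · have := cm0 S h1 (h i h1)
    rw [vl_nil, mul_one] at this
    exact this.symm
  · rw [h1]
  · have h2 : i = 11 := by omega
    subst h2
    have := cm0 S (i := 10) (l := 11) (A := []) (by norm_num) rfl
    rw [vl_nil, mul_one] at this
    exact this

theorem k6_comm {i : ℕ} (hi : i ∈ [2, 3, 8, 9]) : k i * k 6 = k 6 * k i := by
  have h1 : ∀ i ∈ [2, 3], i < 6 ∧ T0 i 6 = ([], 0) := by decide +kernel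
  have h2 : ∀ i ∈ [8, 9], 6 < i ∧ T0 6 i = ([], 0) := by decide +kernel
  have h3 : i ∈ [2, 3] ∨ i ∈ [8, 9] := by
    simp only [List.mem_cons, List.not_mem_nil, or_false] at hi ⊢
    tauto
  rcases h3 with h | h
  · have := cm0 S (h1 i h).1 (h1 i h).2
    rw [vl_nil, mul_one] at this
    exact this.symm
  · have := cm0 S (h2 i h).1 (h2 i h).2
    rw [vl_nil, mul_one] at this
    exact this

/-- the centralizer of `k 10` is the preimage of `P` -/
theorem mem_cent10 {x : K} : x ∈ centralizer ({k 10} : Set K) ↔ (π x : GL6) ∈ P := by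
  constructor
  · intro hx
    rw [mem_centralizer_singleton_iff] at hx
    refine mem_P_of_comm (π x).2 ?_
    have h1 : (π (k 10) : GL6) = gx 11 0 := coe_k C hk S (by norm_num)
    rw [← h1, ← Subgroup.coe_mul, ← Subgroup.coe_mul, ← map_mul, ← map_mul, hx]
  · intro hx
    have hzc : z ∈ centralizer ({k 10} : Set K) := mem_centralizer_singleton_iff.2 (C.zc _)
    refine mem_of_img C hzc ?_
    refine P_le_of_X (K := img π (centralizer ({k 10} : Set K))) ?_ hx
    have hgen : ∀ i < 12, gx (rt i) (tt i) ∈ img π (centralizer ({k 10} : Set K)) := by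
      intro i hi
      rw [← coe_k C hk S hi]
      exact coe_mem_img (mem_centralizer_singleton_iff.2 (k10_comm C hk S hi))
    intro r hr
    obtain ⟨n, hn⟩ := exists_na C hk S
    have hn10 : n * k 10 * n⁻¹ = k 10 ∨ n * k 10 * n⁻¹ = k 10 * z := by
      apply eq_or' C
      rw [map_mul, map_mul, map_inv, Subgroup.coe_mul, Subgroup.coe_mul, Subgroup.coe_inv, hn,
        coe_k C hk S (by norm_num)]
      exact (na_conj 0).2
    have h4 : ∀ t : Fin 3, gx 7 t ∈ img π (centralizer ({k 10} : Set K)) →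
        gx 4 t ∈ img π (centralizer ({k 10} : Set K)) := by
      intro t ht
      obtain ⟨y, hy, hyt⟩ := mem_img.1 ht
      refine mem_img.2 ⟨n * y * n⁻¹, norm_cent C hn10 hy, ?_⟩
      rw [map_mul, map_mul, map_inv, Subgroup.coe_mul, Subgroup.coe_mul, Subgroup.coe_inv, hn, hyt]
      exact (na_conj t).1
    have hr' : r = 4 ∨ ∃ i < 12, rt i = r ∧ tt i = 0 ∧ rt (i + 1) = r ∧ tt (i + 1) = 1 ∧ i + 1 < 12 := by
      revert hr; revert r; decide +kernel
    rcases hr' with rfl | ⟨i, hi, e1, e2, e3, e4, hi'⟩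
    · exact X_le_of (h4 0 (hgen 0 (by norm_num))) (h4 1 (hgen 1 (by norm_num)))
    · refine X_le_of ?_ ?_
      · have := hgen i hi; rwa [e1, e2] at this
      · have := hgen (i + 1) hi'; rwa [e3, e4] at this

theorem cent10_eq : centralizer ({k 10} : Set K) = pre π P := by
  ext x
  exact mem_cent10 C hk S

theorem k_mem_pre {B : Subgroup GL6} {i : ℕ} (hi : i < 12) (h : gx (rt i) (tt i) ∈ B) : k i ∈ pre π B := by
  rw [mem_pre, coe_k C hk S hi]; exact h

theorem perfect10 : ⁅centralizer ({k 10} : Set K), centralizer ({k 10} : Set K)⁆ =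
    centralizer ({k 10} : Set K) := by
  rw [cent10_eq C hk S]
  refine perfect_pre C P_le_L perfect_P ?_
  have h1 : k 5 * k 4 = k 4 * k 5 * z := by
    have := cm1 S (i := 4) (l := 5) (A := []) (by norm_num) rfl
    rwa [vl_nil, mul_one] at this
  have h2 : ⁅k 4, k 5⁆ = z := by
    have h3 : k 4 * k 5 = k 5 * k 4 * z := by
      rw [h1, mul_assoc, C.zz, mul_one]
    rw [commutatorElement_def, h3, ← C.zc (k 5 * k 4)]
    group
  have hX8 : X 8 ≤ P := (Q1_rs 8 (by simp)).trans Q1_le_P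
  rw [← h2]
  exact commutator_mem_commutator (k_mem_pre C hk S (by norm_num) (hX8 (gx_mem_X _ _)))
    (k_mem_pre C hk S (by norm_num) (hX8 (gx_mem_X _ _)))

/-! ### Square roots of `z` -/

/-- the preimage of `Y` is perfect and commutes with `k 6` -/
theorem root6_pre : ⁅pre π Y, pre π Y⁆ = pre π Y ∧ ∀ w ∈ pre π Y, w * k 6 = k 6 * w := by
  refine ⟨?_, ?_⟩
  · refine perfect_pre C Y_le_L Y_perfect ?_
    have m2 : k 2 ∈ pre π Y := k_mem_pre C hk S (by norm_num) (gx_mem_Y (by decide) _)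
    have m3 : k 3 ∈ pre π Y := k_mem_pre C hk S (by norm_num) (gx_mem_Y (by decide) _)
    have m8 : k 8 ∈ pre π Y := k_mem_pre C hk S (by norm_num) (gx_mem_Y (by decide) _)
    have m9 : k 9 ∈ pre π Y := k_mem_pre C hk S (by norm_num) (gx_mem_Y (by decide) _)
    -- the three commutators
    have c1 := cm0 S (i := 2) (l := 8) (A := [10]) (by norm_num) rfl
    have c2 := cm0 S (i := 2) (l := 9) (A := [11]) (by norm_num) rfl
    have c3 := cm1 S (i := 3) (l := 9) (A := [10, 11]) (by norm_num) rfl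
    simp only [vl_cons, vl_nil, mul_one] at c1 c2 c3
    have hc : ∀ i < 10, k 10 * k i = k i * k 10 := fun i hi => (k10_comm C hk S (by omega)).symm
    have h11 : ∀ i < 11, T0 i 11 = ([], 0) := by decide +kernel
    have hd : ∀ i < 11, k 11 * k i = k i * k 11 := by
      intro i hi
      have := cm0 S hi (h11 i hi)
      rwa [vl_nil, mul_one] at this
    have comm_of : ∀ a b c : K, b * a = a * b * c → (c * a = a * c) → (c * b = b * c) → ⁅b, a⁆ = c := by
      intro a b c h ha hb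
      have h3 : a * b * c = c * (a * b) := by
        rw [← mul_assoc c, ha, mul_assoc a, ← hb, ← mul_assoc]
      rw [commutatorElement_def, h, h3]
      group
    have e1 : ⁅k 8, k 2⁆ = k 10 := comm_of _ _ _ c1 (hc 2 (by norm_num)) (hc 8 (by norm_num))
    have e2 : ⁅k 9, k 2⁆ = k 11 := comm_of _ _ _ c2 (hd 2 (by norm_num)) (hd 9 (by norm_num))
    have e3 : ⁅k 9, k 3⁆ = k 10 * k 11 * z := by
      refine comm_of _ _ _ (by rw [c3]; group) ?_ ?_
      · calc k 10 * k 11 * z * k 3 = k 10 * k 11 * (z * k 3) := by group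
          _ = k 10 * (k 11 * k 3) * z := by rw [C.zc]; group
          _ = k 10 * k 3 * k 11 * z := by rw [hd 3 (by norm_num)]; group
          _ = _ := by rw [hc 3 (by norm_num)]; group
      · calc k 10 * k 11 * z * k 9 = k 10 * k 11 * (z * k 9) := by group
          _ = k 10 * (k 11 * k 9) * z := by rw [C.zc]; group
          _ = k 10 * k 9 * k 11 * z := by rw [hd 9 (by norm_num)]; group
          _ = _ := by rw [hc 9 (by norm_num)]; group
    have s10 : k 10 * k 10 = 1 := k10_sq C hk S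
    have s11 : k 11 * k 11 = 1 := sq0 S rfl
    have hz : z = ⁅k 8, k 2⁆ * ⁅k 9, k 3⁆ * ⁅k 9, k 2⁆ := by
      rw [e1, e2, e3]
      calc z = 1 * z := (one_mul z).symm
        _ = k 10 * k 10 * (z * (k 11 * k 11)) := by rw [s10, s11]; group
        _ = k 10 * k 10 * (k 11 * z * k 11) := by
            congr 1
            rw [← mul_assoc, C.zc]
        _ = _ := by group
    rw [hz]
    exact mul_mem (mul_mem (commutator_mem_commutator m8 m2) (commutator_mem_commutator m9 m3))
      (commutator_mem_commutator m9 m2)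
  · intro w hw
    have hzc : z ∈ centralizer ({k 6} : Set K) := mem_centralizer_singleton_iff.2 (C.zc _)
    suffices h : Y ≤ img π (centralizer ({k 6} : Set K)) from
      mem_centralizer_singleton_iff.1 (mem_of_img C hzc (h hw))
    obtain ⟨n, hn⟩ := exists_nb C hk S
    have hn6 : n * k 6 * n⁻¹ = k 6 ∨ n * k 6 * n⁻¹ = k 6 * z := by
      apply eq_or' C
      rw [map_mul, map_mul, map_inv, Subgroup.coe_mul, Subgroup.coe_mul, Subgroup.coe_inv, hn,
        coe_k C hk S (by norm_num)]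
      exact (nb_conj 0).2
    have hgen : ∀ i ∈ [2, 3, 8, 9], gx (rt i) (tt i) ∈ img π (centralizer ({k 6} : Set K)) := by
      intro i hi
      have h12 : ∀ i ∈ [2, 3, 8, 9], i < 12 := by decide
      rw [← coe_k C hk S (h12 i hi)]
      exact coe_mem_img (mem_centralizer_singleton_iff.2 (k6_comm C hk S hi))
    have h5 : ∀ t : Fin 3, gx 6 t ∈ img π (centralizer ({k 6} : Set K)) →
        gx 5 t ∈ img π (centralizer ({k 6} : Set K)) := by
      intro t ht
      obtain ⟨y, hy, hyt⟩ := mem_img.1 ht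
      refine mem_img.2 ⟨n * y * n⁻¹, norm_cent C hn6 hy, ?_⟩
      rw [map_mul, map_mul, map_inv, Subgroup.coe_mul, Subgroup.coe_mul, Subgroup.coe_inv, hn, hyt]
      exact (nb_conj t).1
    have hX6 : X 6 ≤ img π (centralizer ({k 6} : Set K)) :=
      X_le_of (hgen 2 (by simp)) (hgen 3 (by simp))
    have hX10 : X 10 ≤ img π (centralizer ({k 6} : Set K)) :=
      X_le_of (hgen 8 (by simp)) (hgen 9 (by simp))
    refine (closure_le _).2 ?_
    rintro _ ⟨r, hr, t, rfl⟩
    simp only [List.mem_cons, List.not_mem_nil, or_false] at hr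
    rcases hr with rfl | rfl | rfl
    · exact h5 t (hX6 (gx_mem_X _ _))
    · exact hX6 (gx_mem_X _ _)
    · exact hX10 (gx_mem_X _ _)

/-- a perfect subgroup containing `z` and commuting with `k 6` -/
theorem root6 : ∃ W : Subgroup K, ⁅W, W⁆ = W ∧ z ∈ W ∧ ∀ w ∈ W, w * k 6 = k 6 * w :=
  ⟨pre π Y, (root6_pre C hk S).1, z_mem_pre C _, (root6_pre C hk S).2⟩

end

end Cfsg.Agent.OddHalf.D9.G24.Inner
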