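import Cfsg.Agent.OddHalf.D9.G24.Inner
import Cfsg.Agent.GTwoFour.OuterSyl

/-!
# Perfect double covers of `G₂(4)`: the label of `z`

No automorphism of `C(e)`, `e ≠ z` an involution, maps `e` to `z`.
-/

set_option autoImplicit false
set_option linter.unusedVariables false
set_option linter.unusedSectionVars false

namespace Cfsg.Agent.OddHalf.D9.G24.Label

open Subgroup
open scoped commutatorElement
open Cfsg.Agent.StdG24.Mod6 Cfsg.Agent.OddHalf.D9.G24.Collect Cfsg.Agent.OddHalf.D9.G24.Tab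
  Cfsg.Agent.OddHalf.D9.G24.Cover Cfsg.Agent.OddHalf.D9.G24.Split Cfsg.Agent.OddHalf.D9.G24.InvL
  Cfsg.Agent.OddHalf.D9.G24.Inner
open Cfsg.Agent.GTwoFour.Mdl (X P Q1 gx_mem_X X_cases X_sq mem_P_of_comm perfect_P P_le_of_X core_P
  center_Q1 cent_Q1Z Q1_rs sq_Q1 X_le_L P_le_L Q1_le_P norm_Q1 Q1_PS PS)

variable {K : Type*} [Group K] {z : K} {π : K →* L}

theorem gx_ne (r : Fin 12) (t : Fin 3) : gx r t ≠ 1 := by
  intro h
  have h1 : ∀ (r : Fin 12) (t : Fin 3), cw [(r, t)] ≠ idC := by decide +kernel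
  refine h1 r t ?_
  have h2 : ev [(r, t)] = ev [] := by rw [ev_singleton, h, ev_nil]
  exact ev_eq_iff.1 h2

theorem gx_ne_gx : gx 11 0 ≠ gx 11 1 := by
  intro h
  have h1 : cw [((11 : Fin 12), (0 : Fin 3))] ≠ cw [(11, 1)] := by decide +kernel
  refine h1 (ev_eq_iff.1 ?_)
  rw [ev_singleton, ev_singleton, h]

/-- generation of `Q1` -/
theorem Q1_le_of {B : Subgroup GL6} (h : ∀ r ∈ ([6, 8, 9, 10, 11] : List (Fin 12)), X r ≤ B) : Q1 ≤ B := by
  intro q hq
  have hPS : ∀ rs : List (Fin 12), (∀ r ∈ rs, X r ≤ B) → ∀ n ∈ PS rs, n ∈ B := by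
    intro rs
    induction rs with
    | nil => rintro _ n hn; rw [show n = 1 from hn]; exact one_mem _
    | cons r rs ih =>
      rintro h n ⟨x, hx, n', hn', rfl⟩
      exact mul_mem (h r List.mem_cons_self hx) (ih (fun s hs => h s (List.mem_cons_of_mem _ hs)) n' hn')
  exact hPS _ h q (Q1_PS hq)

section

variable (C : Cov z π) {k : ℕ → K} (hk : Lifts π k) (S : Tb z k)

include C hk S

theorem k11_comm {i : ℕ} (hi : i < 12) : k i * k 11 = k 11 * k i := by
  have h : ∀ i < 11, T0 i 11 = ([], 0) := by decide +kernel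
  rcases lt_or_eq_of_le (Nat.lt_succ_iff.1 hi) with h1 | h1
  · have := cm0 S h1 (h i h1)
    rw [vl_nil, mul_one] at this
    exact this.symm
  · rw [h1]

/-- `k 11` is central in the preimage of `P` -/
theorem comm11 {x : K} (hx : (π x : GL6) ∈ P) : x * k 11 = k 11 * x := by
  have hzc : z ∈ centralizer ({k 11} : Set K) := mem_centralizer_singleton_iff.2 (C.zc _)
  refine mem_centralizer_singleton_iff.1 (mem_of_img C hzc ?_)
  refine P_le_of_X (K := img π (centralizer ({k 11} : Set K))) ?_ hx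
  have hgen : ∀ i < 12, gx (rt i) (tt i) ∈ img π (centralizer ({k 11} : Set K)) := by
    intro i hi
    rw [← coe_k C hk S hi]
    exact coe_mem_img (mem_centralizer_singleton_iff.2 (k11_comm C hk S hi))
  intro r hr
  obtain ⟨n, hn⟩ := exists_na C hk S
  have hn10 : n * k 11 * n⁻¹ = k 11 ∨ n * k 11 * n⁻¹ = k 11 * z := by
    apply eq_or' C
    rw [map_mul, map_mul, map_inv, Subgroup.coe_mul, Subgroup.coe_mul, Subgroup.coe_inv, hn,
      coe_k C hk S (by norm_num)]
    exact (na_conj 1).2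
  have h4 : ∀ t : Fin 3, gx 7 t ∈ img π (centralizer ({k 11} : Set K)) →
      gx 4 t ∈ img π (centralizer ({k 11} : Set K)) := by
    intro t ht
    obtain ⟨y, hy, hyt⟩ := mem_img.1 ht
    refine mem_img.2 ⟨n * y * n⁻¹, norm_cent C hn10 hy, ?_⟩
    rw [map_mul, map_mul, map_inv, Subgroup.coe_mul, Subgroup.coe_mul, Subgroup.coe_inv, hn, hyt]
    exact (na_conj t).1
  have hr' : r = 4 ∨ ∃ i < 12, rt i = r ∧ tt i = 0 ∧ rt (i + 1) = r ∧ tt (i + 1) = 1 ∧ i + 1 < 12 := by
    revert hr; revert r; decide +kernel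
  rcases hr' with rfl | ⟨i, hi, e1, e2, e3, e4, hi'⟩
  · exact X_le_of (h4 0 (hgen 0 (by norm_num))) (h4 1 (hgen 1 (by norm_num)))
  · refine X_le_of ?_ ?_
    · have := hgen i hi; rwa [e1, e2] at this
    · have := hgen (i + 1) hi'; rwa [e3, e4] at this

theorem comm10 {x : K} (hx : (π x : GL6) ∈ P) : x * k 10 = k 10 * x :=
  mem_centralizer_singleton_iff.1 ((mem_cent10 C hk S).2 hx)

/-- the preimage of `X 11` is central in the preimage of `P` -/
theorem comm_X11 {q : K} (hq : (π q : GL6) ∈ X 11) {x : K} (hx : (π x : GL6) ∈ P) : x * q = q * x := by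
  have h1 : X 11 ≤ img π (centralizer ((pre π P : Subgroup K) : Set K)) := by
    refine X_le_of ?_ ?_
    · refine mem_img.2 ⟨k 10, ?_, coe_k C hk S (by norm_num)⟩
      rw [mem_centralizer_iff]
      intro y hy
      exact comm10 C hk S hy
    · refine mem_img.2 ⟨k 11, ?_, coe_k C hk S (by norm_num)⟩
      rw [mem_centralizer_iff]
      intro y hy
      exact comm11 C hk S hy
  have hz : z ∈ centralizer ((pre π P : Subgroup K) : Set K) := by
    rw [mem_centralizer_iff]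
    intro y _
    exact (C.zc y).symm
  exact mem_centralizer_iff.1 (mem_of_img C hz (h1 hq)) x hx

/-- the group of the elements whose commutator with `q` is in the central group `F` -/
theorem comm_mem {q : K} (hq : (π q : GL6) ∈ P) {F : Subgroup K}
    (hF : ∀ f ∈ F, ∀ x, (π x : GL6) ∈ P → x * f = f * x)
    (hgen : ∀ i, 2 ≤ i → i < 12 → ⁅q, k i⁆ ∈ F) {y : K} (hy : (π y : GL6) ∈ Q1) : ⁅q, y⁆ ∈ F := by
  let T : Subgroup K :=
    { carrier := {y | (π y : GL6) ∈ P ∧ ⁅q, y⁆ ∈ F}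
      one_mem' := ⟨by rw [map_one]; exact one_mem _, by rw [commutatorElement_one_right]; exact one_mem _⟩
      mul_mem' := by
        rintro a b ⟨ha, ha'⟩ ⟨hb, hb'⟩
        refine ⟨by rw [map_mul]; exact mul_mem ha hb, ?_⟩
        have h1 : ⁅q, a * b⁆ = ⁅q, a⁆ * (a * ⁅q, b⁆ * a⁻¹) := by
          simp only [commutatorElement_def]; group
        have h2 : a * ⁅q, b⁆ * a⁻¹ = ⁅q, b⁆ := by rw [hF _ hb' a ha]; group
        rw [h1, h2]
        exact mul_mem ha' hb'
      inv_mem' := by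
        rintro a ⟨ha, ha'⟩
        refine ⟨by rw [map_inv]; exact inv_mem ha, ?_⟩
        have h1 : ⁅q, a⁻¹⁆ = a⁻¹ * (⁅q, a⁆)⁻¹ * a⁻¹⁻¹ := by
          simp only [commutatorElement_def]; group
        have h2 : (π a⁻¹ : GL6) ∈ P := by rw [map_inv]; exact inv_mem ha
        rw [h1, hF _ (inv_mem ha') a⁻¹ h2, mul_inv_cancel_right]
        exact inv_mem ha' }
  have hz : z ∈ T := by
    refine ⟨by rw [C.pz]; exact one_mem _, ?_⟩
    rw [commutatorElement_eq_one_iff_mul_comm.2 (C.zc q).symm]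
    exact one_mem _
  have h1 : Q1 ≤ img π T := by
    refine Q1_le_of fun r hr => ?_
    have hr' : ∃ i < 12, 2 ≤ i ∧ rt i = r ∧ tt i = 0 ∧ rt (i + 1) = r ∧ tt (i + 1) = 1 ∧ i + 1 < 12 := by
      revert hr; revert r; decide +kernel
    have hX : X r ≤ P := (Q1_rs r hr).trans Q1_le_P
    obtain ⟨i, hi, h2, e1, e2, e3, e4, hi'⟩ := hr'
    have hmem : ∀ j, 2 ≤ j → j < 12 → rt j = r → gx (rt j) (tt j) ∈ img π T := by
      intro j hj2 hj hjr
      rw [← coe_k C hk S hj]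
      refine coe_mem_img ⟨?_, hgen j hj2 hj⟩
      rw [coe_k C hk S hj]
      exact hX (hjr ▸ gx_mem_X _ _)
    refine X_le_of ?_ ?_
    · have := hmem i h2 hi e1; rwa [e1, e2] at this
    · have := hmem (i + 1) (by omega) hi' e3; rwa [e3, e4] at this
  exact (mem_of_img C hz (h1 hy)).2

/-- elements of the preimage of `Q1` have order dividing 8 -/
theorem pow_eight {y : K} (hy : (π y : GL6) ∈ Q1) : y ^ 8 = 1 := by
  have h1 := sq_Q1 _ hy
  have h2 := X_sq h1
  have h3 : (π (y ^ 4) : GL6) = 1 := by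
    rw [map_pow, Subgroup.coe_pow]
    calc (π y : GL6) ^ 4 = (π y : GL6) * π y * ((π y : GL6) * π y) := by
          simp only [pow_succ, pow_zero, one_mul, mul_assoc]
      _ = 1 := h2
  have h4 : π (y ^ 4) = 1 := Subtype.ext h3
  rcases C.ker _ h4 with h | h
  · calc y ^ 8 = y ^ 4 * y ^ 4 := by rw [← pow_add]
      _ = 1 := by rw [h, one_mul]
  · calc y ^ 8 = y ^ 4 * y ^ 4 := by rw [← pow_add]
      _ = 1 := by rw [h, C.zz]

/-- automorphisms of the preimage of `P` preserve the preimage of `Q1` -/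
theorem map_Q1 (ψ : pre π P ≃* pre π P) (x : pre π P) (hx : (π (x : K) : GL6) ∈ Q1) :
    (π (ψ x : K) : GL6) ∈ Q1 := by
  let N : Subgroup K :=
    { carrier := {g | ∃ y : pre π P, (π (y : K) : GL6) ∈ Q1 ∧ (ψ y : K) = g}
      one_mem' := ⟨1, by rw [Subgroup.coe_one, map_one]; exact one_mem _, by rw [map_one, Subgroup.coe_one]⟩
      mul_mem' := by
        rintro _ _ ⟨a, ha, rfl⟩ ⟨b, hb, rfl⟩
        exact ⟨a * b, by rw [Subgroup.coe_mul, map_mul]; exact mul_mem ha hb, by rw [map_mul, Subgroup.coe_mul]⟩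
      inv_mem' := by
        rintro _ ⟨a, ha, rfl⟩
        exact ⟨a⁻¹, by rw [Subgroup.coe_inv, map_inv]; exact inv_mem ha, by rw [map_inv, Subgroup.coe_inv]⟩ }
  refine core_P (img π N) ?_ ?_ ?_ (coe_mem_img (π := π) (H := N) ⟨x, hx, rfl⟩)
  · intro g hg
    obtain ⟨_, ⟨y, _, rfl⟩, rfl⟩ := mem_img.1 hg
    exact (ψ y).2
  · intro p hp g hg
    obtain ⟨_, ⟨y, hy, rfl⟩, rfl⟩ := mem_img.1 hg
    obtain ⟨m, hm⟩ := exists_lift C p (P_le_L hp)
    have hmP : m ∈ pre π P := by rw [mem_pre, hm]; exact hp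
    set m' : pre π P := ⟨m, hmP⟩ with hm'
    refine mem_img.2 ⟨m * (ψ y : K) * m⁻¹, ⟨ψ.symm m' * y * (ψ.symm m')⁻¹, ?_, ?_⟩, ?_⟩
    · rw [Subgroup.coe_mul, Subgroup.coe_mul, Subgroup.coe_inv, map_mul, map_mul, map_inv,
        Subgroup.coe_mul, Subgroup.coe_mul, Subgroup.coe_inv]
      exact norm_Q1 _ (ψ.symm m').2 _ hy
    · rw [map_mul, map_mul, map_inv, ψ.apply_symm_apply]
      rfl
    · rw [map_mul, map_mul, map_inv, Subgroup.coe_mul, Subgroup.coe_mul, Subgroup.coe_inv, hm]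
  · rintro ⟨g, hg⟩
    obtain ⟨_, ⟨y, hy, rfl⟩, rfl⟩ := mem_img.1 hg
    refine ⟨3, Subtype.ext ?_⟩
    have h1 : y ^ 8 = 1 := Subtype.ext (by rw [Subgroup.coe_pow]; exact pow_eight C hk S hy)
    have h2 : (ψ y) ^ 8 = 1 := by rw [← map_pow, h1, map_one]
    have h3 : (ψ y : K) ^ 8 = 1 := by
      have := congrArg (Subtype.val) h2
      rwa [Subgroup.coe_pow] at this
    change (π (ψ y : K) : GL6) ^ (2 ^ 3) = 1
    rw [show (2 : ℕ) ^ 3 = 8 by norm_num, ← Subgroup.coe_pow, ← map_pow, h3, map_one, Subgroup.coe_one]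

/-- the key step: `q ∈ Q1^`, all `[q, y]` in `{1, e, b, e b}` -/
theorem label_aux (ψ : pre π P ≃* pre π P) {e b q : pre π P} (hq : (π (q : K) : GL6) ∈ Q1)
    (hqc : ∃ y : pre π P, q * y ≠ y * q)
    (hcomm : ∀ y : pre π P, (π (y : K) : GL6) ∈ Q1 → ⁅q, y⁆ = 1 ∨ ⁅q, y⁆ = e ∨ ⁅q, y⁆ = b ∨ ⁅q, y⁆ = e * b)
    (he : (ψ e : K) = z) : False := by
  have h1 := map_Q1 C hk S ψ q hq
  have h2 : (π (ψ q : K) : GL6) ∉ X 11 := by
    intro h
    obtain ⟨y, hy⟩ := hqc
    apply hy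
    apply ψ.injective
    rw [map_mul, map_mul]
    apply Subtype.ext
    rw [Subgroup.coe_mul, Subgroup.coe_mul]
    exact (comm_X11 C hk S h (ψ y).2).symm
  obtain ⟨⟨y0, hy0, h3⟩, ⟨y1, hy1, h4⟩⟩ := exists_comm h1 h2
  have key : ∀ y ∈ Q1, ∀ s : Fin 3, ⁅(π (ψ q : K) : GL6), y⁆ = gx 11 s → gx 11 s = (π (ψ b : K) : GL6) := by
    intro y hy s hs
    obtain ⟨m, hm⟩ := exists_lift C y (P_le_L (Q1_le_P hy))
    have hmP : m ∈ pre π P := by rw [mem_pre, hm]; exact Q1_le_P hy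
    set m' : pre π P := ⟨m, hmP⟩ with hm'
    have h5 : (π ((ψ.symm m' : pre π P) : K) : GL6) ∈ Q1 := map_Q1 C hk S ψ.symm m' (by
      change (π m : GL6) ∈ Q1
      rw [hm]; exact hy)
    have h7 : ∀ a b : pre π P, (π ((⁅a, b⁆ : pre π P) : K) : GL6) =
        ⁅(π (a : K) : GL6), (π (b : K) : GL6)⁆ := fun a b =>
      map_commutatorElement ((L.subtype.comp π).comp (pre π P).subtype) a b
    have h6 : (π ((ψ ⁅q, ψ.symm m'⁆ : pre π P) : K) : GL6) = gx 11 s := by
      rw [map_commutatorElement, ψ.apply_symm_apply, h7, ← hs, ← hm]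
    have hzero : (π ((ψ 1 : pre π P) : K) : GL6) = 1 := by
      rw [map_one, Subgroup.coe_one, map_one, Subgroup.coe_one]
    have hez : (π ((ψ e : pre π P) : K) : GL6) = 1 := by
      rw [he, C.pz]; rfl
    rcases hcomm _ h5 with h | h | h | h
    · rw [h, hzero] at h6; exact absurd h6.symm (gx_ne 11 s)
    · rw [h, hez] at h6; exact absurd h6.symm (gx_ne 11 s)
    · rw [h] at h6; exact h6.symm
    · rw [h, map_mul, Subgroup.coe_mul, map_mul, Subgroup.coe_mul, hez, one_mul] at h6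
      exact h6.symm
  exact gx_ne_gx ((key y0 hy0 0 h3).trans (key y1 hy1 1 h4).symm)

/-- the two witnesses: `q = k 2`, `b = k 11` for `e = k 10`; `q = k 3`, `b = k 11` for `e = k 10 z` -/
theorem comm2 {y : K} (hy : (π y : GL6) ∈ Q1) :
    ⁅k 2, y⁆ = 1 ∨ ⁅k 2, y⁆ = k 10 ∨ ⁅k 2, y⁆ = k 11 ∨ ⁅k 2, y⁆ = k 10 * k 11 := by
  have s10 : k 10 * k 10 = 1 := k10_sq C hk S
  have s11 : k 11 * k 11 = 1 := sq0 S rfl
  have h10 : k 11 * k 10 = k 10 * k 11 := k10_comm C hk S (by norm_num)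
  have hX : ∀ i, 2 ≤ i → i < 12 → (π (k i) : GL6) ∈ P := by
    intro i h2 hi
    have hr : ∀ i < 12, 2 ≤ i → rt i ∈ ([6, 8, 9, 10, 11] : List (Fin 12)) := by decide +kernel
    rw [coe_k C hk S hi]
    exact Q1_le_P (Q1_rs _ (hr i hi h2) (gx_mem_X _ _))
  let F := Cfsg.Agent.GTwoFour.OuterSyl.four (k 10) (k 11) s10 s11 h10.symm
  have hF : ∀ f ∈ F, ∀ x, (π x : GL6) ∈ P → x * f = f * x := by
    intro f hf x hx
    have c10 := comm10 C hk S hx
    have c11 := comm11 C hk S hx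
    rcases hf with h | h | h | h
    · rw [h, mul_one, one_mul]
    · rw [h]; exact c10
    · rw [h]; exact c11
    · rw [h, ← mul_assoc, c10, mul_assoc, c11, mul_assoc]
  refine comm_mem C hk S (F := F) (hX 2 le_rfl (by norm_num)) hF ?_ hy
  intro i h2 hi
  have hcase : i = 2 ∨ ((2 < i) ∧ ((T0 2 i = ([], 0)) ∨ T0 2 i = ([10], 0) ∨ T0 2 i = ([11], 0))) := by
    have : ∀ i < 12, 2 ≤ i → (i = 2 ∨ ((2 < i) ∧ ((T0 2 i = ([], 0)) ∨ T0 2 i = ([10], 0) ∨
      T0 2 i = ([11], 0)))) := by decide +kernel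
    exact this i hi h2
  have comm_of : ∀ c : K, (∀ x, (π x : GL6) ∈ P → x * c = c * x) → c * c = 1 →
      k i * k 2 = k 2 * k i * c → ⁅k 2, k i⁆ = c := by
    intro c hc hcc h
    have h3 : k 2 * k i = k i * k 2 * c := by rw [h, mul_assoc, hcc, mul_one]
    have h4 : k i * k 2 * c = c * (k i * k 2) := by
      have := hc (k i * k 2) (by
        rw [map_mul]; exact mul_mem (hX i h2 hi) (hX 2 le_rfl (by norm_num)))
      exact this
    rw [commutatorElement_def, h3, h4]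
    group
  rcases hcase with rfl | ⟨h3, h | h | h⟩
  · rw [commutatorElement_self]; exact one_mem _
  · have h4 := cm0 S h3 h
    rw [vl_nil, mul_one] at h4
    rw [commutatorElement_eq_one_iff_mul_comm.2 h4.symm]; exact one_mem _
  · have h4 := cm0 S h3 h
    simp only [vl_cons, vl_nil, mul_one] at h4
    right; left
    exact comm_of _ (fun x hx => comm10 C hk S hx) s10 h4
  · have h4 := cm0 S h3 h
    simp only [vl_cons, vl_nil, mul_one] at h4
    right; right; left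
    exact comm_of _ (fun x hx => comm11 C hk S hx) s11 h4

theorem comm3 {y : K} (hy : (π y : GL6) ∈ Q1) :
    ⁅k 3, y⁆ = 1 ∨ ⁅k 3, y⁆ = k 10 * z ∨ ⁅k 3, y⁆ = k 11 ∨ ⁅k 3, y⁆ = k 10 * z * k 11 := by
  have s10 : k 10 * k 10 = 1 := k10_sq C hk S
  have s11 : k 11 * k 11 = 1 := sq0 S rfl
  have h10 : k 11 * k 10 = k 10 * k 11 := k10_comm C hk S (by norm_num)
  have hzz := C.zz
  have hzc := C.zc
  have s10z : k 10 * z * (k 10 * z) = 1 := by
    calc k 10 * z * (k 10 * z) = k 10 * (z * k 10) * z := by group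
      _ = k 10 * k 10 * (z * z) := by rw [hzc]; group
      _ = 1 := by rw [s10, hzz, one_mul]
  have h10z : k 10 * z * k 11 = k 11 * (k 10 * z) := by
    calc k 10 * z * k 11 = k 10 * (z * k 11) := by group
      _ = k 10 * k 11 * z := by rw [hzc]; group
      _ = _ := by rw [← h10]; group
  have hX : ∀ i, 2 ≤ i → i < 12 → (π (k i) : GL6) ∈ P := by
    intro i h2 hi
    have hr : ∀ i < 12, 2 ≤ i → rt i ∈ ([6, 8, 9, 10, 11] : List (Fin 12)) := by decide +kernel
    rw [coe_k C hk S hi]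
    exact Q1_le_P (Q1_rs _ (hr i hi h2) (gx_mem_X _ _))
  let F := Cfsg.Agent.GTwoFour.OuterSyl.four (k 10 * z) (k 11) s10z s11 h10z
  have c10z : ∀ x, (π x : GL6) ∈ P → x * (k 10 * z) = k 10 * z * x := by
    intro x hx
    calc x * (k 10 * z) = (x * k 10) * z := by group
      _ = k 10 * (x * z) := by rw [comm10 C hk S hx]; group
      _ = _ := by rw [← hzc]; group
  have hF : ∀ f ∈ F, ∀ x, (π x : GL6) ∈ P → x * f = f * x := by
    intro f hf x hx
    have c10 := c10z x hx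
    have c11 := comm11 C hk S hx
    rcases hf with h | h | h | h
    · rw [h, mul_one, one_mul]
    · rw [h]; exact c10
    · rw [h]; exact c11
    · rw [h]
      calc x * (k 10 * z * k 11) = (x * (k 10 * z)) * k 11 := by group
        _ = (k 10 * z) * (x * k 11) := by rw [c10]; group
        _ = _ := by rw [c11]; group
  refine comm_mem C hk S (F := F) (hX 3 (by norm_num) (by norm_num)) hF ?_ hy
  intro i h2 hi
  have hcase : i = 2 ∨ i = 3 ∨ ((3 < i) ∧ ((T0 3 i = ([], 0)) ∨ T0 3 i = ([11], 0) ∨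
      T0 3 i = ([10, 11], 1))) := by
    have : ∀ i < 12, 2 ≤ i → (i = 2 ∨ i = 3 ∨ ((3 < i) ∧ ((T0 3 i = ([], 0)) ∨ T0 3 i = ([11], 0) ∨
      T0 3 i = ([10, 11], 1)))) := by decide +kernel
    exact this i hi h2
  have comm_of : ∀ c : K, (∀ x, (π x : GL6) ∈ P → x * c = c * x) → c * c = 1 →
      k i * k 3 = k 3 * k i * c → ⁅k 3, k i⁆ = c := by
    intro c hc hcc h
    have h3 : k 3 * k i = k i * k 3 * c := by rw [h, mul_assoc, hcc, mul_one]
    have h4 : k i * k 3 * c = c * (k i * k 3) := by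
      have := hc (k i * k 3) (by
        rw [map_mul]; exact mul_mem (hX i h2 hi) (hX 3 (by norm_num) (by norm_num)))
      exact this
    rw [commutatorElement_def, h3, h4]
    group
  rcases hcase with rfl | rfl | ⟨h3, h | h | h⟩
  · have h4 := cm0 S (i := 2) (l := 3) (A := []) (by norm_num) rfl
    rw [vl_nil, mul_one] at h4
    rw [commutatorElement_eq_one_iff_mul_comm.2 h4]; exact one_mem _
  · rw [commutatorElement_self]; exact one_mem _
  · have h4 := cm0 S h3 h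
    rw [vl_nil, mul_one] at h4
    rw [commutatorElement_eq_one_iff_mul_comm.2 h4.symm]; exact one_mem _
  · have h4 := cm0 S h3 h
    simp only [vl_cons, vl_nil, mul_one] at h4
    right; right; left
    exact comm_of _ (fun x hx => comm11 C hk S hx) s11 h4
  · have h4 := cm1 S h3 h
    simp only [vl_cons, vl_nil, mul_one] at h4
    right; right; right
    refine comm_of _ (fun x hx => hF _ (Or.inr (Or.inr (Or.inr rfl))) x hx) ?_ ?_
    · calc k 10 * z * k 11 * (k 10 * z * k 11) = k 10 * z * (k 11 * (k 10 * z)) * k 11 := by group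
        _ = k 10 * z * (k 10 * z) * (k 11 * k 11) := by rw [← h10z]; group
        _ = 1 := by rw [s10z, s11, one_mul]
    · rw [h4]
      calc k 3 * k i * (k 10 * k 11) * z = k 3 * k i * (k 10 * (k 11 * z)) := by group
        _ = _ := by rw [← hzc]; group

/-- **Label.** -/
theorem label {e : K} (he : e = k 10 ∨ e = k 10 * z) (ψ : pre π P ≃* pre π P)
    (heP : e ∈ pre π P) : ((ψ ⟨e, heP⟩ : pre π P) : K) ≠ z := by
  intro hz
  have hr : ∀ i < 12, 2 ≤ i → rt i ∈ ([6, 8, 9, 10, 11] : List (Fin 12)) := by decide +kernel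
  have hQ : ∀ i, 2 ≤ i → i < 12 → (π (k i) : GL6) ∈ Q1 := by
    intro i h2 hi
    rw [coe_k C hk S hi]
    exact Q1_rs _ (hr i hi h2) (gx_mem_X _ _)
  have hP : ∀ i, 2 ≤ i → i < 12 → k i ∈ pre π P := fun i h2 hi => Q1_le_P (hQ i h2 hi)
  have hne : ∀ i, i < 12 → k i ≠ 1 := by
    intro i hi h
    have h1 := coe_k C hk S hi
    rw [h, map_one] at h1
    exact gx_ne _ _ h1.symm
  rcases he with rfl | rfl
  · refine label_aux C hk S ψ (e := ⟨k 10, heP⟩) (b := ⟨k 11, hP 11 (by norm_num) (by norm_num)⟩)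
      (q := ⟨k 2, hP 2 (by norm_num) (by norm_num)⟩) (hQ 2 (by norm_num) (by norm_num)) ?_ ?_ hz
    · refine ⟨⟨k 8, hP 8 (by norm_num) (by norm_num)⟩, fun h => ?_⟩
      have h1 : k 2 * k 8 = k 8 * k 2 := congrArg Subtype.val h
      have h2 := cm0 S (i := 2) (l := 8) (A := [10]) (by norm_num) rfl
      simp only [vl_cons, vl_nil, mul_one] at h2
      rw [h1] at h2
      exact hne 10 (by norm_num) (mul_eq_left.1 h2.symm)
    · intro y hy
      rcases comm2 C hk S hy with h | h | h | h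
      · exact Or.inl (Subtype.ext h)
      · exact Or.inr (Or.inl (Subtype.ext h))
      · exact Or.inr (Or.inr (Or.inl (Subtype.ext h)))
      · exact Or.inr (Or.inr (Or.inr (Subtype.ext h)))
  · refine label_aux C hk S ψ (e := ⟨k 10 * z, heP⟩) (b := ⟨k 11, hP 11 (by norm_num) (by norm_num)⟩)
      (q := ⟨k 3, hP 3 (by norm_num) (by norm_num)⟩) (hQ 3 (by norm_num) (by norm_num)) ?_ ?_ hz
    · refine ⟨⟨k 8, hP 8 (by norm_num) (by norm_num)⟩, fun h => ?_⟩
      have h1 : k 3 * k 8 = k 8 * k 3 := congrArg Subtype.val h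
      have h2 := cm0 S (i := 3) (l := 8) (A := [11]) (by norm_num) rfl
      simp only [vl_cons, vl_nil, mul_one] at h2
      rw [h1] at h2
      exact hne 11 (by norm_num) (mul_eq_left.1 h2.symm)
    · intro y hy
      rcases comm3 C hk S hy with h | h | h | h
      · exact Or.inl (Subtype.ext h)
      · exact Or.inr (Or.inl (Subtype.ext h))
      · exact Or.inr (Or.inr (Or.inl (Subtype.ext h)))
      · exact Or.inr (Or.inr (Or.inr (Subtype.ext h)))

end

end Cfsg.Agent.OddHalf.D9.G24.Label
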