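import Cfsg.Agent.GTwoFour.MdlEndB
import Cfsg.Agent.GTwoFour.MdlRed
import Cfsg.Agent.GTwoFour.OuterFour

/-!
# The outer automorphisms of `G₂(4)` (helper928)

`sg` is the field automorphism of the six-dimensional model `Mod6.L`: `sg (x_r(t)) = x_r(t²)`.

* `outer_conj` : every outer involutory automorphism is conjugate to `sg` (Sylow and the argument of Lang on the
  maximal unipotent subgroup);
* `sq_inner` : the square of every automorphism is inner;
* `Y` : a perfect subgroup fixed by `sg` containing the long root elements `x_r(1)`.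
-/

set_option autoImplicit false

namespace Cfsg.Agent.OddHalf.D9.G24.OutL

open Subgroup
open Cfsg.Agent.SporRec.GF4
open Cfsg.Agent.StdG24.Mod6
open Cfsg.Agent.GTwoFour Cfsg.Agent.GTwoFour.Mdl
open scoped commutatorElement

/-! ### the field automorphism -/

/-- The Frobenius automorphism of `𝔽₄`. -/
def fr : F4 ≃+* F4 where
  toFun x := x * x
  invFun x := x * x
  left_inv := by decide
  right_inv := by decide
  map_mul' := by decide
  map_add' := by decide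

theorem fr_fr : ∀ x : F4, fr (fr x) = x := by decide

/-- The entrywise Frobenius automorphism. -/
def sG : GL6 ≃* GL6 := Units.mapEquiv (RingEquiv.mapMatrix fr).toMulEquiv

theorem sG_coe (g : GL6) (i j : Fin 6) : (sG g : Mat) i j = fr ((g : Mat) i j) := rfl

theorem sG_sG (g : GL6) : sG (sG g) = g := by
  apply Units.ext
  funext i j
  rw [sG_coe, sG_coe, fr_fr]

/-- The action on the parameters `1, w, v`. -/
def f3 : Fin 3 → Fin 3 := ![0, 2, 1]

theorem gx_check' : ((List.finRange 12).all fun r => (List.finRange 3).all fun t => (List.finRange 6).all fun i =>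
    (List.finRange 6).all fun j => decide (fr (matOf (xc r t) i j) = matOf (xc r (f3 t)) i j)) = true := by
  decide +kernel

theorem gx_check (r : Fin 12) (t : Fin 3) (i j : Fin 6) :
    fr (matOf (xc r t) i j) = matOf (xc r (f3 t)) i j :=
  of_decide_eq_true (List.all_eq_true.1 (List.all_eq_true.1 (List.all_eq_true.1 (List.all_eq_true.1 gx_check' r
    (List.mem_finRange r)) t (List.mem_finRange t)) i (List.mem_finRange i)) j (List.mem_finRange j))

theorem sG_gx (r : Fin 12) (t : Fin 3) : sG (gx r t) = gx r (f3 t) := by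
  apply Units.ext
  funext i j
  exact gx_check r t i j

theorem sG_X (r : Fin 12) : ∀ x ∈ X r, sG x ∈ X r := by
  intro x hx
  rcases X_cases hx with rfl | ⟨t, rfl⟩
  · rw [map_one]; exact one_mem _
  · rw [sG_gx]; exact gx_mem_X r _

theorem sG_L : ∀ x ∈ L, sG x ∈ L := by
  intro x hx
  have h : L ≤ L.comap sG.toMonoidHom := by
    rw [L, closure_le]
    rintro _ ⟨r, t, rfl⟩
    show sG (gx r t) ∈ L
    rw [sG_gx]
    exact gx_mem _ _
  exact h hx

theorem sG_mulSub {K N : Subgroup GL6} {h : ∀ k ∈ K, ∀ n ∈ N, k * n * k⁻¹ ∈ N} (hK : ∀ x ∈ K, sG x ∈ K)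
    (hN : ∀ x ∈ N, sG x ∈ N) : ∀ x ∈ mulSub K N h, sG x ∈ mulSub K N h := by
  rintro _ ⟨k, hk, n, hn, rfl⟩
  exact ⟨sG k, hK k hk, sG n, hN n hn, map_mul sG k n⟩

theorem sG_W4 : ∀ x ∈ W4, sG x ∈ W4 := sG_mulSub (sG_X 10) (sG_X 11)
theorem sG_N9 : ∀ x ∈ N9, sG x ∈ N9 := sG_mulSub (sG_X 9) sG_W4
theorem sG_N8 : ∀ x ∈ N8, sG x ∈ N8 := sG_mulSub (sG_X 8) sG_N9
theorem sG_Q1 : ∀ x ∈ Q1, sG x ∈ Q1 := sG_mulSub (sG_X 6) sG_N8
theorem sG_U : ∀ x ∈ U, sG x ∈ U := sG_mulSub (sG_X 7) sG_Q1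

/-- **The field automorphism.** -/
def sg : MulAut L where
  toFun x := ⟨sG x, sG_L x x.2⟩
  invFun x := ⟨sG x, sG_L x x.2⟩
  left_inv x := Subtype.ext (sG_sG x)
  right_inv x := Subtype.ext (sG_sG x)
  map_mul' x y := Subtype.ext (map_mul sG (x : GL6) y)

theorem coe_sg (x : L) : ((sg x : L) : GL6) = sG x := rfl

theorem sg_sg (x : L) : sg (sg x) = x := Subtype.ext (sG_sG x)

theorem sg_mul_sg : sg * sg = 1 := by
  ext x : 1
  exact sg_sg x

/-- `sg (x_r(t)) = x_r(t²)`. -/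
theorem sg_gx (r : Fin 12) (t : Fin 3) : sg ⟨gx r t, gx_mem r t⟩ = ⟨gx r (f3 t), gx_mem r _⟩ :=
  Subtype.ext (sG_gx r t)

theorem sg_gx0 (r : Fin 12) : sg ⟨gx r 0, gx_mem r 0⟩ = ⟨gx r 0, gx_mem r 0⟩ := sg_gx r 0
theorem sg_gx1 (r : Fin 12) : sg ⟨gx r 1, gx_mem r 1⟩ = ⟨gx r 2, gx_mem r 2⟩ := sg_gx r 1
theorem sg_gx2 (r : Fin 12) : sg ⟨gx r 2, gx_mem r 2⟩ = ⟨gx r 1, gx_mem r 1⟩ := sg_gx r 2

/-! ### Lang's argument -/

theorem ne_check : ∀ r : Fin 12, xc r 1 ≠ xc r 2 := by decide +kernel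

theorem gx_ne12 (r : Fin 12) : gx r 1 ≠ gx r 2 := fun h =>
  ne_check r (((Cd_gx r 1).eq_iff (Cd_gx r 2)).1 h)

theorem add_check : ∀ r : Fin 12, cw [(r, 1), (r, 2)] = cw [(r, 0)] := by decide +kernel

theorem gx_12 (r : Fin 12) : gx r 1 * gx r 2 = gx r 0 := by
  have h := ev_eq_of (add_check r)
  rwa [ev_singleton, show ev [(r, 1), (r, 2)] = gx r 1 * gx r 2 from by
    rw [show ([(r, 1), (r, 2)] : Wd) = [(r, 1)] ++ [(r, 2)] from rfl, ev_append, ev_singleton, ev_singleton]] at h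

theorem X_fix {r : Fin 12} {u : GL6} (hu : u ∈ X r) (h : u * sG u = 1) : u = 1 ∨ u = gx r 0 := by
  have h' : sG u = u := by
    have := eq_inv_of_mul_eq_one_right h
    rwa [X_inv hu] at this
  rcases X_cases hu with rfl | ⟨t, rfl⟩
  · exact Or.inl rfl
  · rw [sG_gx] at h'
    match t with
    | 0 => exact Or.inr rfl
    | 1 => exact absurd (show gx r 2 = gx r 1 from h').symm (gx_ne12 r)
    | 2 => exact absurd (show gx r 1 = gx r 2 from h') (gx_ne12 r)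

theorem lang_step {r : Fin 12} {N : Subgroup GL6} {h : ∀ k ∈ X r, ∀ n ∈ N, k * n * k⁻¹ ∈ N}
    (hd : ∀ g ∈ X r, g ∈ N → g = 1) (hN : ∀ n ∈ N, sG n ∈ N)
    (ih : ∀ u ∈ N, u * sG u = 1 → ∃ v ∈ L, u = v⁻¹ * sG v) :
    ∀ u ∈ mulSub (X r) N h, u * sG u = 1 → ∃ v ∈ L, u = v⁻¹ * sG v := by
  rintro _ ⟨x, hx, n, hn, rfl⟩ hu
  have h1 : x * sG x = 1 := by
    apply hd _ (mul_mem hx (sG_X r x hx))
    have h2 : x * sG x = ((sG x)⁻¹ * n * (sG x)⁻¹⁻¹ * sG n)⁻¹ := by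
      rw [eq_inv_iff_mul_eq_one, ← hu, map_mul]
      group
    rw [h2]
    exact inv_mem (mul_mem (h _ (inv_mem (sG_X r x hx)) n hn) (hN n hn))
  rcases X_fix hx h1 with rfl | rfl
  · rw [one_mul] at hu ⊢
    exact ih n hn hu
  · set v0 := gx r 1 with hv0
    have hs : sG v0 = gx r 2 := sG_gx r 1
    have e1 : v0 * (gx r 0 * n) * (sG v0)⁻¹ = sG v0 * n * (sG v0)⁻¹ := by
      have e2 : v0 * gx r 0 = sG v0 := by
        rw [← gx_12 r, hs, hv0, ← mul_assoc, gx_sq, one_mul]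
      rw [← mul_assoc v0, e2]
    have hmem : v0 * (gx r 0 * n) * (sG v0)⁻¹ ∈ N := by
      rw [e1]
      exact h _ (sG_X r _ (gx_mem_X r 1)) n hn
    have hprod : v0 * (gx r 0 * n) * (sG v0)⁻¹ * sG (v0 * (gx r 0 * n) * (sG v0)⁻¹) = 1 := by
      rw [map_mul sG (v0 * (gx r 0 * n)), map_inv, sG_sG, map_mul sG v0]
      calc v0 * (gx r 0 * n) * (sG v0)⁻¹ * (sG v0 * sG (gx r 0 * n) * v0⁻¹)
          = v0 * ((gx r 0 * n) * sG (gx r 0 * n)) * v0⁻¹ := by group
        _ = 1 := by rw [hu]; group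
    obtain ⟨v1, hv1, he⟩ := ih _ hmem hprod
    refine ⟨v1 * v0, mul_mem hv1 (gx_mem r 1), ?_⟩
    rw [map_mul, mul_inv_rev]
    calc gx r 0 * n = v0⁻¹ * (v0 * (gx r 0 * n) * (sG v0)⁻¹) * sG v0 := by group
      _ = v0⁻¹ * (v1⁻¹ * sG v1) * sG v0 := by rw [he]
      _ = _ := by group

theorem lang_X (r : Fin 12) : ∀ u ∈ X r, u * sG u = 1 → ∃ v ∈ L, u = v⁻¹ * sG v := by
  intro u hu h
  rcases X_fix hu h with rfl | rfl
  · exact ⟨1, one_mem _, by rw [map_one]; group⟩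
  · refine ⟨gx r 1, gx_mem r 1, ?_⟩
    rw [sG_gx, gx_inv]
    exact (gx_12 r).symm

theorem lang_W4 : ∀ u ∈ W4, u * sG u = 1 → ∃ v ∈ L, u = v⁻¹ * sG v :=
  lang_step disj10 (sG_X 11) (lang_X 11)
theorem lang_N9 : ∀ u ∈ N9, u * sG u = 1 → ∃ v ∈ L, u = v⁻¹ * sG v :=
  lang_step disj9 sG_W4 lang_W4
theorem lang_N8 : ∀ u ∈ N8, u * sG u = 1 → ∃ v ∈ L, u = v⁻¹ * sG v :=
  lang_step disj8 sG_N9 lang_N9
theorem lang_Q1 : ∀ u ∈ Q1, u * sG u = 1 → ∃ v ∈ L, u = v⁻¹ * sG v :=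
  lang_step disj6 sG_N8 lang_N8
theorem lang_U : ∀ u ∈ U, u * sG u = 1 → ∃ v ∈ L, u = v⁻¹ * sG v :=
  lang_step disj71 sG_Q1 lang_Q1

/-! ### outer automorphisms -/

/-- the square of every automorphism is inner -/
theorem sq_inner (b : MulAut L) : ∃ c : L, ∀ x, b (b x) = c * x * c⁻¹ := Cfsg.Agent.StdG24.Ax6.ax6.sq_inner b

theorem mul_inner (a b : MulAut L) (ha : ¬ ∃ c : L, ∀ x, a x = c * x * c⁻¹)
    (hb : ¬ ∃ c : L, ∀ x, b x = c * x * c⁻¹) : ∃ c : L, ∀ x, a (b x) = c * x * c⁻¹ :=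
  Cfsg.Agent.StdG24.Ax6.ax6.mul_inner a b ha hb

/-- `sg` is not inner -/
theorem sg_outer : ¬ ∃ c : L, ∀ x, sg x = c * x * c⁻¹ := by
  rintro ⟨c, hc⟩
  have h1 : (c : GL6) * gx 11 0 = gx 11 0 * (c : GL6) := by
    have h := congrArg Subtype.val (hc ⟨gx 11 0, gx_mem 11 0⟩)
    rw [coe_sg] at h
    have h' : sG (gx 11 0) = (c : GL6) * gx 11 0 * (c : GL6)⁻¹ := h
    rw [sG_gx] at h'
    have h2 : gx 11 0 = (c : GL6) * gx 11 0 * (c : GL6)⁻¹ := h'
    calc (c : GL6) * gx 11 0 = (c : GL6) * gx 11 0 * (c : GL6)⁻¹ * c := by group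
      _ = gx 11 0 * c := by rw [← h2]
  have hP : (c : GL6) ∈ P := mem_P_of_comm c.2 h1
  have h3 : (c : GL6) * gx 11 1 = gx 11 1 * c := Z_comm hP (gx_mem_X 11 1)
  have h := congrArg Subtype.val (hc ⟨gx 11 1, gx_mem 11 1⟩)
  have h' : sG (gx 11 1) = (c : GL6) * gx 11 1 * (c : GL6)⁻¹ := h
  rw [h3, mul_inv_cancel_right, sG_gx] at h'
  exact gx_ne12 11 (show gx 11 2 = gx 11 1 from h').symm

theorem conj_sg_aux : ∀ k ∈ zpowers sg, ∀ n ∈ (MulAut.conj (G := L)).range, k * n * k⁻¹ ∈ (MulAut.conj (G := L)).range := by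
  rintro k - _ ⟨g, rfl⟩
  refine ⟨k g, ?_⟩
  ext x : 1
  simp only [MulAut.conj_apply, MulAut.mul_apply, map_mul, map_inv, MulAut.apply_inv_self]

theorem zpowers_sg {k : MulAut L} (hk : k ∈ zpowers sg) : k = 1 ∨ k = sg := by
  obtain ⟨i, rfl⟩ := mem_zpowers_iff.1 hk
  rcases Int.even_or_odd' i with ⟨j, rfl | rfl⟩
  · left
    rw [zpow_mul, show sg ^ (2 : ℤ) = 1 from by rw [zpow_two, sg_mul_sg], one_zpow]
  · right
    rw [zpow_add, zpow_mul, show sg ^ (2 : ℤ) = 1 from by rw [zpow_two, sg_mul_sg], one_zpow, one_mul, zpow_one]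

/-- the maximal unipotent subgroup in `L` -/
def UL : Subgroup L := U.subgroupOf L

theorem U_le : U ≤ L := by rw [← sup_eq]; exact U_le_L

theorem conj_UL_aux : ∀ k ∈ zpowers sg, ∀ n ∈ UL.map (MulAut.conj (G := L)), k * n * k⁻¹ ∈ UL.map (MulAut.conj (G := L)) := by
  rintro k hk _ ⟨g, hg, rfl⟩
  have hkg : k g ∈ UL := by
    rcases zpowers_sg hk with rfl | rfl
    · exact hg
    · exact sG_U g hg
  refine ⟨k g, hkg, ?_⟩
  ext x : 1
  simp only [MulAut.conj_apply, MulAut.mul_apply, map_mul, map_inv, MulAut.apply_inv_self]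

/-- `Inn(L)⟨sg⟩` -/
def CA : Subgroup (MulAut L) := mulSub (zpowers sg) (MulAut.conj (G := L)).range conj_sg_aux
/-- `Inn(U)⟨sg⟩` -/
def SA : Subgroup (MulAut L) := mulSub (zpowers sg) (UL.map (MulAut.conj (G := L))) conj_UL_aux

theorem conj_inj : Function.Injective (MulAut.conj (G := L)) := by
  rw [injective_iff_map_eq_one]
  intro c hc
  apply RedAut.center_triv Cfsg.Agent.StdG24.Ax6.ax6
  intro x
  have h := congrArg (fun f : MulAut L => f x) hc
  have h' : c * x * c⁻¹ = x := h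
  calc c * x = c * x * c⁻¹ * c := by group
    _ = x * c := by rw [h']

theorem sg_not_conj {f : MulAut L} (hf : f ∈ (MulAut.conj (G := L)).range) : f ≠ sg := by
  rintro rfl
  obtain ⟨c, hc⟩ := hf
  exact sg_outer ⟨c, fun x => by rw [← hc]; rfl⟩

theorem disj_C : ∀ g ∈ zpowers sg, g ∈ (MulAut.conj (G := L)).range → g = 1 := by
  intro g hg hr
  rcases zpowers_sg hg with h | h
  · exact h
  · exact absurd h (sg_not_conj hr)

theorem map_le_range : UL.map (MulAut.conj (G := L)) ≤ (MulAut.conj (G := L)).range := by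
  rintro _ ⟨g, -, rfl⟩
  exact ⟨g, rfl⟩

theorem sg_ne_one : sg ≠ 1 := fun h => sg_not_conj (one_mem _) h.symm

theorem card_zp : Nat.card (zpowers sg) = 2 := by
  rw [Nat.card_zpowers]
  exact orderOf_eq_prime (by rw [pow_two, sg_mul_sg]) sg_ne_one

theorem card_CA : Nat.card CA = 2 * 251596800 := by
  rw [CA, card_mulSub disj_C, card_zp]
  congr 1
  rw [← Cfsg.Agent.StdG24.Ord6.card_L]
  exact (Nat.card_congr (MonoidHom.ofInjective conj_inj).toEquiv).symm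

theorem card_SA : Nat.card SA = 2 ^ 13 := by
  rw [SA, card_mulSub (fun g h1 h2 => disj_C g h1 (map_le_range h2)), card_zp]
  have h1 : Nat.card (UL.map (MulAut.conj (G := L))) = Nat.card UL :=
    Nat.card_congr (UL.equivMapOfInjective _ conj_inj).symm.toEquiv
  have h2 : Nat.card UL = Nat.card U := Nat.card_congr (subgroupOfEquivOfLe U_le).toEquiv
  have h3 : Nat.card U = 2 ^ 12 := by rw [← card_U, sup_eq]
  rw [h1, h2, h3]
  norm_num

theorem SA_le : SA ≤ CA := mulSub_le le_left (map_le_range.trans le_right)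

theorem finite_L : Finite L := Nat.finite_of_card_ne_zero (by rw [Cfsg.Agent.StdG24.Ord6.card_L]; norm_num)

theorem not_dvd : ¬ 2 ∣ SA.relIndex CA := by
  have h := OuterFour.card_mul_relIndex SA_le
  rw [card_SA, card_CA] at h
  omega

/-- **Every outer involutory automorphism is conjugate to the field automorphism.** -/
theorem outer_conj (b : MulAut L) (hb : ∀ x, b (b x) = x) (ho : ¬ ∃ c : L, ∀ x, b x = c * x * c⁻¹) :
    ∃ g : L, ∀ x, b x = g * sg (g⁻¹ * x * g) * g⁻¹ := by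
  have := finite_L
  have : Fact (Nat.Prime 2) := ⟨Nat.prime_two⟩
  have hbb : b * b = 1 := by
    ext x : 1
    exact hb x
  -- `b ∈ CA`
  have hbC : b ∈ CA := by
    obtain ⟨c, hc⟩ := mul_inner sg b sg_outer ho
    refine ⟨sg, mem_zpowers _, MulAut.conj c, ⟨c, rfl⟩, ?_⟩
    ext x : 1
    show b x = sg (c * x * c⁻¹)
    rw [← hc, sg_sg]
  have hXp : IsPGroup 2 (zpowers b) := by
    apply IsPGroup.of_card (n := 1)
    rw [Nat.card_zpowers, pow_one]
    apply orderOf_eq_prime (by rw [pow_two, hbb])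
    rintro rfl
    exact ho ⟨1, fun x => by simp⟩
  have hSp : IsPGroup 2 SA := IsPGroup.of_card card_SA
  obtain ⟨c, hcC, hc⟩ := OuterFour.exists_conj_le (zpowers_le.2 hbC) hSp hXp not_dvd
  have h1 := hc b (mem_zpowers b)
  obtain ⟨k, hk, _, ⟨g, rfl⟩, rfl⟩ := hcC
  -- remove `k`
  have hkS : k ∈ SA := le_left hk
  have h2 : MulAut.conj g * b * (MulAut.conj g)⁻¹ ∈ SA := by
    have h3 := mul_mem (mul_mem (inv_mem hkS) h1) hkS
    have e : k⁻¹ * (k * MulAut.conj g * b * (k * MulAut.conj g)⁻¹) * k =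
        MulAut.conj g * b * (MulAut.conj g)⁻¹ := by group
    rwa [e] at h3
  obtain ⟨k', hk', _, ⟨u, hu, rfl⟩, he⟩ := h2
  have hk1 : k' = sg := by
    rcases zpowers_sg hk' with rfl | h
    · exfalso
      apply ho
      refine ⟨g⁻¹ * u * g, fun x => ?_⟩
      have h3 : b = (MulAut.conj g)⁻¹ * MulAut.conj u * MulAut.conj g := by
        rw [one_mul] at he
        rw [← he]
        group
      rw [h3]
      simp only [MulAut.mul_apply, MulAut.conj_apply, MulAut.conj_inv_apply]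
      group
    · exact h
  subst hk1
  -- `u' = sg u`
  have hu' : sG u ∈ U := sG_U u hu
  set u' : L := sg u with hu'def
  have he' : MulAut.conj g * b * (MulAut.conj g)⁻¹ = MulAut.conj u' * sg := by
    rw [he]
    ext x : 1
    simp only [MulAut.mul_apply, MulAut.conj_apply, map_mul, map_inv]
    rfl
  have hsq : MulAut.conj (u' * sg u') = 1 := by
    have h3 : MulAut.conj g * b * (MulAut.conj g)⁻¹ * (MulAut.conj g * b * (MulAut.conj g)⁻¹) = 1 := by
      calc MulAut.conj g * b * (MulAut.conj g)⁻¹ * (MulAut.conj g * b * (MulAut.conj g)⁻¹)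
          = MulAut.conj g * (b * b) * (MulAut.conj g)⁻¹ := by group
        _ = 1 := by rw [hbb]; group
    rw [he'] at h3
    rw [← h3]
    ext x : 1
    simp only [MulAut.mul_apply, MulAut.conj_apply, map_mul, map_inv, sg_sg]
  have hone : u' * sg u' = 1 := conj_inj (hsq.trans (map_one _).symm)
  obtain ⟨v, hv, hve⟩ := lang_U (sG u) hu' (congrArg Subtype.val hone)
  have hve' : u' = (⟨v, hv⟩ : L)⁻¹ * sg ⟨v, hv⟩ := Subtype.ext hve
  set w : L := ⟨v, hv⟩ with hw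
  refine ⟨(w * g)⁻¹, fun x => ?_⟩
  have hbe : b = (MulAut.conj g)⁻¹ * (MulAut.conj u' * sg) * MulAut.conj g := by
    rw [← he']
    group
  rw [hbe, hve']
  simp only [MulAut.mul_apply, MulAut.conj_apply, MulAut.conj_inv_apply, map_mul, map_inv, mul_inv_rev, inv_inv]
  group

/-! ### the perfect subgroup `SL₃(2)` of the centralizer -/

/-- `⟨x_r(1) : r long⟩ = SL₃(2)` -/
def Y : Subgroup L := closure {x | ∃ r ∈ ([0, 1, 5, 6, 10, 11] : List (Fin 12)), x = ⟨gx r 0, gx_mem r 0⟩}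

theorem gx_mem_Y {r : Fin 12} (hr : r ∈ ([0, 1, 5, 6, 10, 11] : List (Fin 12))) :
    (⟨gx r 0, gx_mem r 0⟩ : L) ∈ Y := subset_closure ⟨r, hr, rfl⟩

theorem sg_Y : ∀ y ∈ Y, sg y = y := by
  intro y hy
  induction hy using closure_induction with
  | mem x hx => obtain ⟨r, -, rfl⟩ := hx; exact sg_gx0 r
  | one => exact map_one _
  | mul x y _ _ hx hy => rw [map_mul, hx, hy]
  | inv x _ hx => rw [map_inv, hx]

theorem comm_check : ∀ r ∈ ([0, 1, 5, 6, 10, 11] : List (Fin 12)),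
    ∃ s ∈ ([0, 1, 5, 6, 10, 11] : List (Fin 12)), ∃ t ∈ ([0, 1, 5, 6, 10, 11] : List (Fin 12)),
      cw (cmw [(s, 0)] [(t, 0)]) = cw [(r, 0)] := by decide +kernel

theorem Y_perfect : ⁅Y, Y⁆ = Y := by
  apply le_antisymm
  · rw [commutator_le]
    intro a ha b hb
    rw [commutatorElement_def]
    exact mul_mem (mul_mem (mul_mem ha hb) (inv_mem ha)) (inv_mem hb)
  · nth_rewrite 1 [Y]
    rw [closure_le]
    rintro _ ⟨r, hr, rfl⟩
    obtain ⟨s, hs, t, ht, h⟩ := comm_check r hr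
    have h1 := ev_eq_of h
    rw [ev_cmw, ev_singleton, ev_singleton, ev_singleton] at h1
    have h2 : (⟨gx r 0, gx_mem r 0⟩ : L) = ⁅(⟨gx s 0, gx_mem s 0⟩ : L), (⟨gx t 0, gx_mem t 0⟩ : L)⁆ :=
      Subtype.ext h1.symm
    rw [h2]
    exact commutator_mem_commutator (gx_mem_Y hs) (gx_mem_Y ht)

/-- The centralizer of the field automorphism contains a perfect subgroup containing `x_6(1), x_10(1), x_11(1)`. -/
theorem exists_Y : ∃ Y : Subgroup L, ⁅Y, Y⁆ = Y ∧ (∀ y ∈ Y, sg y = y) ∧ (⟨gx 6 0, gx_mem 6 0⟩ : L) ∈ Y ∧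
    (⟨gx 10 0, gx_mem 10 0⟩ : L) ∈ Y ∧ (⟨gx 11 0, gx_mem 11 0⟩ : L) ∈ Y :=
  ⟨Y, Y_perfect, sg_Y, gx_mem_Y (by decide), gx_mem_Y (by decide), gx_mem_Y (by decide)⟩

end Cfsg.Agent.OddHalf.D9.G24.OutL
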