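import Cfsg.Agent.OddHalf.D9.G24.Row
import Cfsg.Agent.OddHalf.D9.KillAnyRow
import Cfsg.Agent.OddHalf.D9.OuterOf
import Cfsg.Agent.StdG24.FactsNW

/-!
# The row `2.G₂(4)` for an arbitrary centralizer

`KillAny.Facts z` for the perfect double covers of `G₂(4)`.
-/

set_option autoImplicit false
set_option linter.unusedVariables false
set_option linter.unusedSectionVars false

namespace Cfsg.Agent.OddHalf.D9.G24.Sf

open Subgroup Cfsg.Agent.OddHalf.D9.Kill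
open scoped commutatorElement

/-! ### Group theory -/

section Gen

variable {A : Type*} [Group A]

/-- `P = S Q`, `S` simple: a normal subgroup of `P` lies in `Q` or covers `P / Q`. -/
theorem split_simple {P S Q : Subgroup A} (hS : IsSimpleGroup S) (hSP : S ≤ P)
    (hPQ : ∀ x ∈ P, ∃ s ∈ S, ∃ q ∈ Q, x = s * q) (hQn : ∀ s ∈ S, ∀ q ∈ Q, s * q * s⁻¹ ∈ Q)
    {N : Subgroup A} (hN : N ≤ P) (hn : ∀ p ∈ P, ∀ x ∈ N, p * x * p⁻¹ ∈ N) :
    N ≤ Q ∨ P ≤ N ⊔ Q := by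
  have hM : ∀ s ∈ S, ∀ x ∈ N ⊔ Q, s * x * s⁻¹ ∈ N ⊔ Q := by
    intro s hs x hx
    have h1 : (N ⊔ Q).map (MulAut.conj s).toMonoidHom ≤ N ⊔ Q := by
      rw [Subgroup.map_sup]
      refine sup_le_sup ?_ ?_
      · rintro _ ⟨y, hy, rfl⟩; exact hn s (hSP hs) y hy
      · rintro _ ⟨y, hy, rfl⟩; exact hQn s hs y hy
    exact h1 ⟨x, hx, rfl⟩
  let M : Subgroup S := (N ⊔ Q).subgroupOf S
  have hMn : M.Normal := ⟨fun x hx g => hM g g.2 x hx⟩
  rcases hMn.eq_bot_or_eq_top with h | h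
  · left
    intro x hx
    obtain ⟨s, hs, q, hq, rfl⟩ := hPQ x (hN hx)
    have h1 : (⟨s, hs⟩ : S) ∈ M := by
      change s ∈ N ⊔ Q
      have h2 : s = s * q * q⁻¹ := by group
      rw [h2]
      exact mul_mem (mem_sup_left hx) (mem_sup_right (inv_mem hq))
    rw [h, mem_bot] at h1
    have h2 : s = 1 := congrArg Subtype.val h1
    rw [h2, one_mul]; exact hq
  · right
    intro x hx
    obtain ⟨s, hs, q, hq, rfl⟩ := hPQ x hx
    refine mul_mem ?_ (mem_sup_right hq)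
    have h1 : (⟨s, hs⟩ : S) ∈ M := by rw [h]; exact mem_top _
    exact h1

/-- A normal subgroup `N` of a perfect group `T` which covers `T / M`, `M` metabelian. -/
theorem eq_of_cover {T M N : Subgroup A} (hMT : M ≤ T) (hT : ⁅T, T⁆ = T)
    (hM : ⁅⁅M, M⁆, ⁅M, M⁆⁆ = ⊥) (hNT : N ≤ T) (hn : ∀ t ∈ T, ∀ n ∈ N, t * n * t⁻¹ ∈ N)
    (h : T ≤ N ⊔ M) : N = T := by
  obtain ⟨N', hN'⟩ : ∃ N' : Subgroup T, N' = N.subgroupOf T := ⟨_, rfl⟩
  obtain ⟨D', hD'⟩ : ∃ D' : Subgroup T, D' = M.subgroupOf T := ⟨_, rfl⟩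
  have hN'n : N'.Normal := by
    rw [hN']
    exact ⟨fun x hx g => hn g g.2 x hx⟩
  have hTt : ⁅(⊤ : Subgroup T), (⊤ : Subgroup T)⁆ = ⊤ := by
    apply map_injective T.subtype_injective
    rw [map_commutator, ← MonoidHom.range_eq_map, range_subtype, hT]
  have hDD : ⁅⁅D', D'⁆, ⁅D', D'⁆⁆ = ⊥ := by
    apply map_injective T.subtype_injective
    have e : D'.map T.subtype = M := by
      rw [hD', subgroupOf_map_subtype, inf_eq_left]; exact hMT
    rw [map_commutator, map_commutator, e, hM, Subgroup.map_bot]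
  have hs := QuotientGroup.mk'_surjective N'
  have ht : (⊤ : Subgroup T).map (QuotientGroup.mk' N') = ⊤ := map_top_of_surjective _ hs
  have h1 : D'.map (QuotientGroup.mk' N') = ⊤ := by
    have e : N' ⊔ D' = ⊤ := by
      rw [eq_top_iff]
      intro x _
      have h2 : (x : A) ∈ N ⊔ M := h x.2
      rw [hN', hD', ← subgroupOf_sup hNT hMT]
      exact h2
    rw [← ht, ← e, Subgroup.map_sup, QuotientGroup.map_mk'_self, bot_sup_eq]
  have e1 : ⁅(⊤ : Subgroup (T ⧸ N')), (⊤ : Subgroup (T ⧸ N'))⁆ = ⊤ := by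
    rw [← ht, ← map_commutator, hTt]
  have e2 : (⁅D', D'⁆ : Subgroup T).map (QuotientGroup.mk' N') = ⊤ := by
    rw [map_commutator, h1, e1]
  have e3 : (⁅⁅D', D'⁆, ⁅D', D'⁆⁆ : Subgroup T).map (QuotientGroup.mk' N') = ⊤ := by
    rw [map_commutator, e2, e1]
  have e4 : (⊤ : Subgroup (T ⧸ N')) = ⊥ := by
    rw [← e3, hDD, Subgroup.map_bot]
  refine le_antisymm hNT fun t ht' => ?_
  have h2 : QuotientGroup.mk' N' ⟨t, ht'⟩ ∈ (⊤ : Subgroup (T ⧸ N')) := mem_top _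
  rw [e4, mem_bot] at h2
  have h3 : (⟨t, ht'⟩ : T) ∈ N' := (QuotientGroup.eq_one_iff _).1 h2
  rw [hN'] at h3
  exact h3

theorem sf_of {T M N : Subgroup A} (hMT : M ≤ T) (hT : ⁅T, T⁆ = T)
    (hM : ⁅⁅M, M⁆, ⁅M, M⁆⁆ = ⊥) (hNT : N ≤ T) (hNN : ⁅N, N⁆ = N)
    (hn : ∀ t ∈ T, ∀ n ∈ N, t * n * t⁻¹ ∈ N) (h : N ≤ M ∨ T ≤ N ⊔ M) : N = ⊥ ∨ N = T := by
  rcases h with h | h
  · left
    have h1 : N ≤ ⁅M, M⁆ := by
      calc N = ⁅N, N⁆ := hNN.symm
        _ ≤ _ := commutator_mono h h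
    have h2 : N ≤ ⁅⁅M, M⁆, ⁅M, M⁆⁆ := by
      calc N = ⁅N, N⁆ := hNN.symm
        _ ≤ _ := commutator_mono h1 h1
    rw [hM] at h2
    exact le_bot_iff.1 h2
  · exact Or.inr (eq_of_cover hMT hT hM hNT hn h)

theorem comm_bot {M : Subgroup A} (h : ∀ a ∈ M, ∀ b ∈ M, a * b = b * a) : ⁅M, M⁆ = ⊥ := by
  rw [eq_bot_iff, commutator_le]
  intro a ha b hb
  rw [mem_bot, commutatorElement_eq_one_iff_mul_comm]
  exact h a ha b hb

/-- the fact `sf` at `k` -/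
def Sfp (k : A) : Prop := ∀ N ≤ Pr (Ce k), ⁅N, N⁆ = N → (∀ p ∈ Pr (Ce k), ∀ n ∈ N, p * n * p⁻¹ ∈ N) →
  N = ⊥ ∨ N = Pr (Ce k)

theorem Sfp.conj {k x : A} (h : Sfp (x * k * x⁻¹)) : Sfp k := by
  intro N hN hNN hn
  have e : (Pr (Ce k)).map (MulAut.conj x).toMonoidHom = Pr (Ce (x * k * x⁻¹)) :=
    OuterOf.map_Pr_Ce (MulAut.conj x) k
  have hi : Function.Injective (MulAut.conj x).toMonoidHom := (MulAut.conj x).injective
  rcases h (N.map (MulAut.conj x).toMonoidHom) (by rw [← e]; exact map_mono hN)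
    (by rw [← map_commutator, hNN]) (by
      intro p hp n hn'
      rw [← e] at hp
      obtain ⟨p', hp', rfl⟩ := hp
      obtain ⟨n', hn'', rfl⟩ := hn'
      exact ⟨p' * n' * p'⁻¹, hn p' hp' n' hn'', by rw [map_mul, map_mul, map_inv]⟩) with h1 | h1
  · left
    exact (map_eq_bot_iff_of_injective _ hi).1 h1
  · right
    rw [← e] at h1
    exact map_injective hi h1

end Gen

open Cfsg.Agent.StdG24.Mod6 Cfsg.Agent.OddHalf.D9.G24.Collect Cfsg.Agent.OddHalf.D9.G24.Tab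
  Cfsg.Agent.OddHalf.D9.G24.Cover Cfsg.Agent.OddHalf.D9.G24.Split Cfsg.Agent.OddHalf.D9.G24.InvL
  Cfsg.Agent.OddHalf.D9.G24.Inner Cfsg.Agent.OddHalf.D9.G24.Label Cfsg.Agent.OddHalf.D9.G24.KFacts
open Cfsg.Agent.GTwoFour.Mdl (X P Q1 S gx_mem_X X_cases mem_P_of_comm perfect_P comm_Q1 S_le_P S_Q1 Q1_le_P
  P_le_L Q1_le_L X4_le_S X7_le_S)
open Cfsg.Agent.StdG24.Al6 (Al As simple_Al simple_As gx2_mem gx9_mem gx5_mem gx6_mem Al_le)
open Cfsg.Agent.StdG24.Inv6 (vE Cv Wv chi_mul chi_inv)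
open Cfsg.Agent.StdG24.Cv6 (Wv_split rw2 rw2_mem)
open Cfsg.Agent.StdG24.FactsNW (N6 N6_comm Al_conj_N gx10_mem gx11_mem N6_le)

/-! ### The two groups in `G₂(4)` -/

/-- the Weyl word `n_a n_b` -/
def wab : Wd := [(7, 0), (4, 0), (7, 0)] ++ [(6, 0), (5, 0), (6, 0)]

theorem wab_check : ∀ t : Fin 3, cw (wab ++ [(7, t)] ++ wab.reverse) = cw [(9, t)] ∧
    cw (wab ++ [(4, t)] ++ wab.reverse) = cw [(2, t)] := by decide +kernel

theorem wab_conj {r s : Fin 12} {t : Fin 3} (h : cw (wab ++ [(r, t)] ++ wab.reverse) = cw [(s, t)]) :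
    ev wab * gx r t * (ev wab)⁻¹ = gx s t := by
  have h1 : ev wab * gx r t * (ev wab)⁻¹ = ev (wab ++ [(r, t)] ++ wab.reverse) := by
    rw [ev_append, ev_append, ev_singleton, ev_reverse]
  rw [h1, ev_eq_of h, ev_singleton]

theorem map_S : S.map (MulAut.conj (ev wab)).toMonoidHom = As := by
  apply le_antisymm
  · have key : ∀ r, (∀ t : Fin 3, ev wab * gx r t * (ev wab)⁻¹ ∈ As) →
        X r ≤ As.comap (MulAut.conj (ev wab)).toMonoidHom := by
      intro r h x hx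
      rcases X_cases hx with rfl | ⟨t, rfl⟩
      · exact one_mem _
      · exact h t
    rw [map_le_iff_le_comap]
    refine sup_le (key 4 fun t => ?_) (key 7 fun t => ?_)
    · rw [wab_conj (wab_check t).2]; exact gx2_mem t
    · rw [wab_conj (wab_check t).1]; exact gx9_mem t
  · refine (closure_le _).2 ?_
    rintro _ ⟨t, rfl | rfl⟩
    · exact ⟨gx 4 t, X4_le_S (gx_mem_X _ _), wab_conj (wab_check t).2⟩
    · exact ⟨gx 7 t, X7_le_S (gx_mem_X _ _), wab_conj (wab_check t).1⟩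

theorem simple_S : IsSimpleGroup S :=
  ((S.equivMapOfInjective (MulAut.conj (ev wab)).toMonoidHom (MulAut.conj (ev wab)).injective).trans
    (MulEquiv.subgroupCongr map_S)).isSimpleGroup

theorem P_simple {N : Subgroup GL6} (hN : N ≤ P) (hn : ∀ p ∈ P, ∀ x ∈ N, p * x * p⁻¹ ∈ N) :
    N ≤ Q1 ∨ P ≤ N ⊔ Q1 :=
  split_simple simple_S S_le_P (fun _ hx => hx) S_Q1 hN hn

theorem Al_le_Y : Al ≤ Y := by
  refine (closure_le _).2 ?_
  rintro _ ⟨t, rfl | rfl⟩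
  · exact gx_mem_Y (by decide) _
  · exact gx_mem_Y (by decide) _

theorem gx11_check : ∀ t : Fin 3, ∃ t' : Fin 3,
    cw (Cfsg.Agent.GTwoFour.Mdl.cmw [(6, t')] [(10, 0)]) = cw [(11, t)] := by decide +kernel

theorem gx11_mem_Y (t : Fin 3) : gx 11 t ∈ Y := by
  obtain ⟨t', h⟩ := gx11_check t
  have h1 : gx 11 t = ⁅gx 6 t', gx 10 0⁆ := by
    rw [← ev_singleton (6, t'), ← ev_singleton (10, 0), ← Cfsg.Agent.GTwoFour.Mdl.ev_cmw,
      ← ev_singleton (11, t)]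
    exact (ev_eq_of h).symm
  rw [h1, commutatorElement_def]
  have m6 := gx_mem_Y (r := 6) (by decide) t'
  have m10 := gx_mem_Y (r := 10) (by decide) 0
  exact mul_mem (mul_mem (mul_mem m6 m10) (inv_mem m6)) (inv_mem m10)

theorem N6_le_Y : N6 ≤ Y := by
  refine (closure_le _).2 ?_
  rintro _ ⟨t, rfl | rfl⟩
  · exact gx_mem_Y (by decide) _
  · exact gx11_mem_Y t

theorem Y_decomp {x : GL6} (hx : x ∈ Y) : ∃ s ∈ Al, ∃ q ∈ N6, x = s * q := by
  induction hx using closure_induction with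
  | mem x hx =>
    obtain ⟨r, hr, t, rfl⟩ := hx
    simp only [List.mem_cons, List.not_mem_nil, or_false] at hr
    rcases hr with rfl | rfl | rfl
    · exact ⟨_, gx5_mem t, 1, one_mem _, (mul_one _).symm⟩
    · exact ⟨_, gx6_mem t, 1, one_mem _, (mul_one _).symm⟩
    · exact ⟨1, one_mem _, _, gx10_mem t, (one_mul _).symm⟩
  | one => exact ⟨1, one_mem _, 1, one_mem _, (mul_one _).symm⟩
  | mul x y _ _ h1 h2 =>
    obtain ⟨s, hs, q, hq, rfl⟩ := h1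
    obtain ⟨s', hs', q', hq', rfl⟩ := h2
    refine ⟨s * s', mul_mem hs hs', s'⁻¹ * q * s'⁻¹⁻¹ * q', mul_mem (Al_conj_N (inv_mem hs') hq) hq', ?_⟩
    group
  | inv x _ h1 =>
    obtain ⟨s, hs, q, hq, rfl⟩ := h1
    refine ⟨s⁻¹, inv_mem hs, s * q⁻¹ * s⁻¹, Al_conj_N hs (inv_mem hq), ?_⟩
    group

theorem Y_simple {N : Subgroup GL6} (hN : N ≤ Y) (hn : ∀ p ∈ Y, ∀ x ∈ N, p * x * p⁻¹ ∈ N) :
    N ≤ N6 ∨ Y ≤ N ⊔ N6 :=
  split_simple simple_Al Al_le_Y (fun _ hx => Y_decomp hx) (fun _ hs _ hq => Al_conj_N hs hq) hN hn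

theorem Wv_le_Y : Wv ≤ Y := by
  intro g hg
  obtain ⟨s, -, t, -, b, hb, rfl⟩ := Wv_split hg
  exact mul_mem (rw2_mem (K := Y) (fun t => gx_mem_Y (by decide) t) gx11_mem_Y s t) (Al_le_Y hb)

theorem comm_Wv {x y : GL6} (hx : x ∈ Cv) (hy : y ∈ Cv) : ⁅x, y⁆ ∈ Wv := by
  rw [commutatorElement_def]
  refine ⟨mul_mem (mul_mem (mul_mem hx hy) (inv_mem hx)) (inv_mem hy), ?_⟩
  rw [chi_mul (mul_mem (mul_mem hx hy) (inv_mem hx)) (inv_mem hy),
    chi_mul (mul_mem hx hy) (inv_mem hx), chi_mul hx hy, chi_inv hx, chi_inv hy]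
  have h3 : ∀ a b : Cfsg.Agent.SporRec.GF4.F4, a + b + a + b = 0 := by decide
  exact h3 _ _

/-! ### The preimages -/

section

variable {K : Type*} [Group K] {z : K} {π : K →* L} (C : Cov z π)

include C

theorem pre_simple {B M : Subgroup GL6} (hBL : B ≤ L) (hML : M ≤ L)
    (h : ∀ N : Subgroup GL6, N ≤ B → (∀ p ∈ B, ∀ x ∈ N, p * x * p⁻¹ ∈ N) → N ≤ M ∨ B ≤ N ⊔ M)
    {N : Subgroup K} (hN : N ≤ pre π B) (hn : ∀ p ∈ pre π B, ∀ x ∈ N, p * x * p⁻¹ ∈ N) :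
    N ≤ pre π M ∨ pre π B ≤ N ⊔ pre π M := by
  rcases h (img π N) (by
      intro g hg
      obtain ⟨x, hx, rfl⟩ := mem_img.1 hg
      exact hN hx) (by
      intro p hp g hg
      obtain ⟨x, hx, rfl⟩ := mem_img.1 hg
      obtain ⟨m, hm⟩ := exists_lift C p (hBL hp)
      refine mem_img.2 ⟨m * x * m⁻¹, hn m (by rw [mem_pre, hm]; exact hp) x hx, ?_⟩
      rw [map_mul, map_mul, map_inv, Subgroup.coe_mul, Subgroup.coe_mul, Subgroup.coe_inv, hm]) with h1 | h1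
  · left
    intro x hx
    exact h1 (coe_mem_img hx)
  · right
    intro x hx
    refine mem_of_img C (H := N ⊔ pre π M) (mem_sup_right (z_mem_pre C _)) ?_
    have e : img π (N ⊔ pre π M) = img π N ⊔ M := by
      rw [img, Subgroup.map_sup, Subgroup.map_sup]
      change img π N ⊔ img π (pre π M) = _
      rw [img_pre C hML]
    rw [e]
    exact h1 hx

omit C in
theorem comm_pre {M M1 : Subgroup GL6} (h : ∀ a ∈ M, ∀ b ∈ M, ⁅a, b⁆ ∈ M1) :
    ⁅pre π M, pre π M⁆ ≤ pre π M1 := by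
  rw [commutator_le]
  intro a ha b hb
  have h1 : (π ⁅a, b⁆ : GL6) = ⁅(π a : GL6), (π b : GL6)⁆ := map_commutatorElement (L.subtype.comp π) a b
  rw [mem_pre, h1]
  exact h _ ha _ hb

omit C in
theorem met_of {M M1 : Subgroup GL6} (h : ∀ a ∈ M, ∀ b ∈ M, ⁅a, b⁆ ∈ M1)
    (h1 : ∀ a ∈ pre π M1, ∀ b ∈ pre π M1, a * b = b * a) :
    ⁅⁅pre π M, pre π M⁆, ⁅pre π M, pre π M⁆⁆ = ⊥ := by
  rw [eq_bot_iff, ← comm_bot h1]
  exact commutator_mono (comm_pre h) (comm_pre h)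

variable {k : ℕ → K} (hk : Lifts π k) (S : Tb z k)

include hk S

theorem Pr10 : Pr (Ce (k 10)) = pre π P := by
  rw [Row.Ce_eq, Row.Pr_eq (perfect10 C hk S), cent10_eq C hk S]

theorem sfp10 : Sfp (k 10) := by
  intro N hN hNN hn
  rw [Pr10 C hk S] at hN hn ⊢
  have hp : ⁅pre π P, pre π P⁆ = pre π P := by
    have := perfect10 C hk S
    rwa [cent10_eq C hk S] at this
  refine sf_of (M := pre π Q1) (fun x hx => Q1_le_P hx) hp ?_ hN hNN hn
    (pre_simple C P_le_L Q1_le_L (fun N h1 h2 => P_simple h1 h2) hN hn)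
  refine met_of (M1 := X 11) comm_Q1 ?_
  intro a ha b hb
  have hXP : X 11 ≤ P := (Cfsg.Agent.GTwoFour.Mdl.Q1_rs 11 (by simp)).trans Q1_le_P
  exact comm_X11 C hk S hb (hXP ha)

theorem Pr6 : Pr (Ce (k 6)) = pre π Y := by
  refine le_antisymm ?_ (le_Pr (fun w hw => (root6_pre C hk S).2 w hw) (root6_pre C hk S).1)
  have h6 : (π (k 6) : GL6) = vE := coe_k C hk S (by norm_num)
  have hCv : ∀ x ∈ Pr (Ce (k 6)), (π x : GL6) ∈ Cv := by
    intro x hx
    refine ⟨(π x).2, ?_⟩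
    have h1 : x * k 6 = k 6 * x := (Pr_le _) hx
    rw [← h6, ← Subgroup.coe_mul, ← Subgroup.coe_mul, ← map_mul, ← map_mul, h1]
  intro x hx
  rw [← Pr_perfect (Ce (k 6))] at hx
  have h2 : ⁅Pr (Ce (k 6)), Pr (Ce (k 6))⁆ ≤ pre π Wv := by
    rw [commutator_le]
    intro a ha b hb
    have h1 : (π ⁅a, b⁆ : GL6) = ⁅(π a : GL6), (π b : GL6)⁆ := map_commutatorElement (L.subtype.comp π) a b
    rw [mem_pre, h1]
    exact comm_Wv (hCv a ha) (hCv b hb)
  exact Wv_le_Y (h2 hx)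

theorem sfp6 : Sfp (k 6) := by
  intro N hN hNN hn
  rw [Pr6 C hk S] at hN hn ⊢
  refine sf_of (M := pre π N6) (fun x hx => N6_le_Y hx) (root6_pre C hk S).1 ?_ hN hNN hn
    (pre_simple C Y_le_L N6_le (fun N h1 h2 => Y_simple h1 h2) hN hn)
  refine met_of (M1 := ⊥) ?_ ?_
  · intro a ha b hb
    rw [mem_bot, commutatorElement_eq_one_iff_mul_comm]
    exact N6_comm ha hb
  · intro a ha b _
    have h1 : π a = 1 := Subtype.ext ha
    rcases C.ker a h1 with h | h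
    · rw [h, one_mul, mul_one]
    · rw [h, C.zc]

theorem sfp_mul_z {c : K} (h : Sfp c) : Sfp (c * z) := by
  have e : Ce (c * z) = Ce c := by
    rw [Row.Ce_eq, Row.Ce_eq, KFacts.cent_z C hk S]
  intro N hN hNN hn
  rw [e] at hN hn ⊢
  exact h N hN hNN hn

theorem sf_all {x : K} (hx : ∃ y, x * y ≠ y * x) (hxx : ∀ y, x * x * y = y * (x * x)) : Sfp x := by
  obtain ⟨y, hy⟩ := hx
  rcases cen_K C hxx with h | h
  · obtain ⟨g, hg⟩ := inv_cases C hk S h (by rintro rfl; exact hy (by group)) (by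
      rintro rfl; exact hy (C.zc y))
    apply Sfp.conj (x := g)
    rcases hg with hg | hg
    · rw [hg]; exact sfp10 C hk S
    · rw [hg]; exact sfp_mul_z C hk S (sfp10 C hk S)
  · obtain ⟨g, hg⟩ := root_cases C hk S h
    apply Sfp.conj (x := g)
    rcases hg with hg | hg
    · rw [hg]; exact sfp6 C hk S
    · rw [hg]; exact sfp_mul_z C hk S (sfp6 C hk S)

end

/-- **`KillAny.Facts` for the perfect double covers of `G₂(4)`.** -/
theorem facts {K : Type*} [Group K] {z : K} {π : K →* L} (C : Cov z π) (hp : commutator K = ⊤)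
    {sg : MulAut L} (A : KFacts.AutL sg) : KillAny.Facts z := by
  have F := kfacts C hp A
  obtain ⟨k, hk, S⟩ := exists_table_true C hp
  exact
    { res := fun x h1 h2 => Row.res_of_sq F h1 h2
      sf := fun x h1 h2 => sf_all C hk S h1 h2
      out := fun α h1 h2 => Or.inr (Row.out F h1 h2) }

universe u

theorem factsAny {sg : MulAut L} (A : KFacts.AutL sg) :
    KillAnyRow.FactsAny.{u} (fun X _ => Cut.XG24 X) := by
  intro M _ _ hq h2 hX c hc1 hcc hc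
  have hp : commutator M = ⊤ := hq.1.commutator_eq_top
  obtain ⟨z, π, C, hπ⟩ := Glue.exists_cov h2 hX
  have F := kfacts C hp A
  have e : c = z := by
    rcases F.cen c hc with h | h
    · exact absurd h hc1
    · exact h
  rw [e]
  exact ⟨Or.inr (Row.noBad F), facts C hp A⟩

/-- **The row `2.G₂(4)`, arbitrary centralizer.** -/
theorem rowAny (ft : KillAnyRow.FT.{u}) {sg : MulAut L} (A : KFacts.AutL sg) :
    KillAnyRow.RowAny.{u} (fun K _ => Cut.Two (fun X _ => Cut.XG24 X) K) :=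
  KillAnyRow.row_two_any ft (fun X _ _ _ _ h => Row.sch X h) (factsAny A)

end Cfsg.Agent.OddHalf.D9.G24.Sf
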