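import Cfsg.Agent.OddHalf.D9.G24.Cover
import Cfsg.Agent.GTwoFour.MdlQ2
import Cfsg.Agent.McLLyComp.CoverMT

/-!
# Double covers of `G₂(4)`: the parameter of a perfect cover is not zero
-/

set_option autoImplicit false
set_option linter.unusedVariables false

namespace Cfsg.Agent.OddHalf.D9.G24.Split

open Subgroup
open Cfsg.Agent.StdG24.Mod6 Cfsg.Agent.OddHalf.D9.G24.Collect Cfsg.Agent.OddHalf.D9.G24.Tab
  Cfsg.Agent.OddHalf.D9.G24.Cover

/-! ### Cardinality of a product -/

section Card

variable {K : Type*} [Group K] [Finite K]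

/-- `A = N ∪ c N` -/
theorem card_le_two_mul {N A : Subgroup K} {c : K} (hn : ∀ x ∈ N, c * x * c⁻¹ ∈ N)
    (hn' : ∀ x ∈ N, c⁻¹ * x * c ∈ N) (hc : c * c ∈ N) {S : Set K} (hS : ∀ x ∈ S, x ∈ N ∨ c⁻¹ * x ∈ N)
    (hA : A ≤ closure S) : Nat.card A ≤ 2 * Nat.card N := by
  have key : ∀ x ∈ closure S, x ∈ N ∨ c⁻¹ * x ∈ N := by
    intro x hx
    induction hx using closure_induction with
    | mem x hx => exact hS x hx
    | one => exact Or.inl (one_mem _)
    | mul x y _ _ hx hy =>
      rcases hx with hx | hx <;> rcases hy with hy | hy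
      · exact Or.inl (mul_mem hx hy)
      · right
        have : c⁻¹ * (x * y) = c⁻¹ * x * c * (c⁻¹ * y) := by group
        rw [this]; exact mul_mem (hn' x hx) hy
      · right
        rw [← mul_assoc]; exact mul_mem hx hy
      · left
        have : x * y = c * (c⁻¹ * x) * c⁻¹ * (c * c) * (c⁻¹ * y) := by group
        rw [this]; exact mul_mem (mul_mem (hn _ hx) hc) hy
    | inv x _ hx =>
      rcases hx with hx | hx
      · exact Or.inl (inv_mem hx)
      · right
        have : c⁻¹ * x⁻¹ = c⁻¹ * (c⁻¹ * x)⁻¹ * c * (c * c)⁻¹ := by group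
        rw [this]; exact mul_mem (hn' _ (inv_mem hx)) (inv_mem hc)
  have hsub : (A : Set K) ⊆ (N : Set K) ∪ (fun x => c * x) '' (N : Set K) := by
    intro x hx
    rcases key x (hA hx) with h | h
    · exact Or.inl h
    · exact Or.inr ⟨c⁻¹ * x, h, by simp⟩
  have h1 : Nat.card A = (A : Set K).ncard := rfl
  have h2 : Nat.card N = (N : Set K).ncard := rfl
  rw [h1, h2]
  calc (A : Set K).ncard ≤ ((N : Set K) ∪ (fun x => c * x) '' (N : Set K)).ncard :=
        Set.ncard_le_ncard hsub (Set.toFinite _)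
    _ ≤ (N : Set K).ncard + ((fun x => c * x) '' (N : Set K)).ncard := Set.ncard_union_le _ _
    _ ≤ (N : Set K).ncard + (N : Set K).ncard := by
        have := Set.ncard_image_le (Set.toFinite (N : Set K)) (f := fun x => c * x)
        omega
    _ = 2 * (N : Set K).ncard := by ring

end Card

variable {K : Type*} [Group K] {z : K} {π : K →* L}

/-- the group generated by the lifts `k j`, `i ≤ j` -/
def A (k : ℕ → K) (i : ℕ) : Subgroup K := closure {x | ∃ j, i ≤ j ∧ x = k j}

theorem A_mono (k : ℕ → K) {i j : ℕ} (h : i ≤ j) : A k j ≤ A k i :=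
  closure_mono (by rintro x ⟨l, hl, rfl⟩; exact ⟨l, h.trans hl, rfl⟩)

theorem mem_A (k : ℕ → K) {i j : ℕ} (h : i ≤ j) : k j ∈ A k i := subset_closure ⟨j, h, rfl⟩

theorem W_gt : ∀ i < 12, ∀ j < 12, ∀ l ∈ W i j, i < l := by decide +kernel

theorem vl_mem {k : ℕ → K} {i : ℕ} {B : List ℕ} (h : ∀ l ∈ B, i ≤ l) : vl k B ∈ A k i := by
  induction B with
  | nil => exact one_mem _
  | cons b B ih =>
    rw [vl_cons]
    exact mul_mem (mem_A k (h b List.mem_cons_self)) (ih fun l hl => h l (List.mem_cons_of_mem _ hl))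

/-- the value of a table entry if the parameter is `0` -/
theorem V_false (k : ℕ → K) (i j : ℕ) : V z k (fun _ => false) 1 (T0 i j) = vl k (W i j) := by
  have : dot (fun _ => false) 1 (T0 i j).2 = false := by simp [dot]
  rw [V, this]
  simp [zb, T0]

theorem card_A [Finite K] {k : ℕ → K} (hk : Lifts π k) (S : Sys z k (fun _ => false) 1 T0) (m : ℕ)
    (hm : m ≤ 12) : Nat.card (A k (12 - m)) ≤ 2 ^ m := by
  induction m with
  | zero =>
    have h1 : A k (12 - 0) = ⊥ := by
      rw [A, closure_eq_bot_iff]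
      rintro x ⟨j, hj, rfl⟩
      exact hk.one j hj
    rw [h1, card_bot]; norm_num
  | succ m ih =>
    have ih' := ih (by omega)
    set i := 12 - (m + 1) with hi
    have hi1 : 12 - m = i + 1 := by omega
    have hi12 : i < 12 := by omega
    rw [hi1] at ih'
    have hsq : k i * k i = 1 := by
      have := S.sq i
      rw [V_false, W_diag] at this
      exact this
    have hinv : (k i)⁻¹ = k i := inv_eq_of_mul_eq_one_left hsq
    have hcj : ∀ x ∈ A k (i + 1), k i * x * (k i)⁻¹ ∈ A k (i + 1) := by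
      intro x hx
      induction hx using closure_induction with
      | mem x hx =>
        obtain ⟨j, hj, rfl⟩ := hx
        by_cases hj12 : j < 12
        · have h1 := S.cm i j hj
          rw [V_false] at h1
          have h2 : k i * k j * (k i)⁻¹ = k j * vl k (W i j) := by
            have h3 : k i * k j * vl k (W i j) * (k i)⁻¹ = k j := by rw [← h1]; group
            have h4 : k i * (k j * vl k (W i j)) * (k i)⁻¹ = k j := by rw [← mul_assoc]; exact h3
            rw [hinv] at h4 ⊢
            calc k i * k j * k i = k i * (k i * (k j * vl k (W i j)) * k i) * k i := by rw [h4]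
              _ = (k i * k i) * (k j * vl k (W i j)) * (k i * k i) := by group
              _ = _ := by rw [hsq, one_mul, mul_one]
          rw [h2]
          refine mul_mem (mem_A k hj) (vl_mem fun l hl => ?_)
          exact W_gt i hi12 j hj12 l hl
        · rw [hk.one j (Nat.not_lt.1 hj12)]
          simp [one_mem]
      | one => simp [one_mem]
      | mul x y _ _ hx hy =>
        have : k i * (x * y) * (k i)⁻¹ = (k i * x * (k i)⁻¹) * (k i * y * (k i)⁻¹) := by group
        rw [this]; exact mul_mem hx hy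
      | inv x _ hx =>
        have : k i * x⁻¹ * (k i)⁻¹ = (k i * x * (k i)⁻¹)⁻¹ := by group
        rw [this]; exact inv_mem hx
    have hcj' : ∀ x ∈ A k (i + 1), (k i)⁻¹ * x * k i ∈ A k (i + 1) := by
      intro x hx
      have := hcj x hx
      rw [hinv] at this ⊢
      exact this
    have h2 := card_le_two_mul (A := A k i) hcj hcj' (by rw [hsq]; exact one_mem _)
      (S := {x | ∃ j, i ≤ j ∧ x = k j}) (by
        rintro x ⟨j, hj, rfl⟩
        rcases eq_or_lt_of_le hj with h | h
        · right; rw [← h]; simp [one_mem]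
        · left; exact mem_A k h) le_rfl
    calc Nat.card (A k i) ≤ 2 * Nat.card (A k (i + 1)) := h2
      _ ≤ 2 * 2 ^ m := by omega
      _ = 2 ^ (m + 1) := by ring

/-! ### The Sylow 2-subgroup `U` of `G₂(4)` -/

open Cfsg.Agent.GTwoFour.Mdl (X X_cases gx_mem_X X_le_L Q1 Q1_rs X7_Q1 mulSub card_mulSub mem_mulSub
  card_Q1 X_nat_card conj_Q1 Q1_PS)

/-- the Sylow 2-subgroup -/
def U : Subgroup GL6 := mulSub (X 7) Q1 X7_Q1

theorem X7_Q1_disj : ∀ g ∈ X 7, g ∈ Q1 → g = 1 := fun g hg hq =>
  Cfsg.Agent.GTwoFour.Mdl.S_Q1_disj g (Cfsg.Agent.GTwoFour.Mdl.X7_le_S hg) hq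

theorem card_U : Nat.card U = 4096 := by
  rw [U, card_mulSub X7_Q1_disj, X_nat_card, card_Q1]

/-- generation of `U` -/
theorem U_le {B : Subgroup GL6} (h : ∀ i < 12, gx (rt i) (tt i) ∈ B) : U ≤ B := by
  have hX : ∀ r ∈ ([7, 6, 8, 9, 10, 11] : List (Fin 12)), X r ≤ B := by
    have hc : ∀ r ∈ ([7, 6, 8, 9, 10, 11] : List (Fin 12)), ∃ i < 12, rt i = r ∧ tt i = 0 ∧
        rt (i + 1) = r ∧ tt (i + 1) = 1 ∧ i + 1 < 12 ∧ cw [(r, 2)] = cw [(r, 0), (r, 1)] := by
      decide +kernel
    intro r hr x hx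
    obtain ⟨i, hi, h1, h2, h3, h4, h5, h6⟩ := hc r hr
    have g0 := h i hi
    have g1 := h (i + 1) h5
    rw [h1, h2] at g0
    rw [h3, h4] at g1
    rcases X_cases hx with rfl | ⟨t, rfl⟩
    · exact one_mem _
    · match t with
      | 0 => exact g0
      | 1 => exact g1
      | 2 =>
        have h7 : gx r 2 = gx r 0 * gx r 1 := by
          have := ev_eq_of h6
          rw [ev_singleton] at this
          rw [this, show [(r, (0 : Fin 3)), (r, 1)] = [(r, 0)] ++ [(r, 1)] from rfl, ev_append,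
            ev_singleton, ev_singleton]
        rw [h7]; exact mul_mem g0 g1
  intro x hx
  obtain ⟨a, ha, q, hq, rfl⟩ := mem_mulSub.1 hx
  refine mul_mem (hX 7 (by simp) ha) ?_
  have hPS : ∀ rs : List (Fin 12), (∀ r ∈ rs, X r ≤ B) → ∀ n ∈ Cfsg.Agent.GTwoFour.Mdl.PS rs, n ∈ B := by
    intro rs
    induction rs with
    | nil => rintro _ n hn; rw [show n = 1 from hn]; exact one_mem _
    | cons r rs ih =>
      rintro h n ⟨x, hx, n', hn', rfl⟩
      exact mul_mem (h r List.mem_cons_self hx) (ih (fun s hs => h s (List.mem_cons_of_mem _ hs)) n' hn')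
  exact hPS [6, 8, 9, 10, 11] (fun r hr => hX r (by simp at hr ⊢; tauto)) q (Q1_PS hq)

theorem gx_mem_U {i : ℕ} (hi : i < 12) : gx (rt i) (tt i) ∈ U := by
  have h : ∀ i < 12, rt i = 7 ∨ rt i ∈ ([6, 8, 9, 10, 11] : List (Fin 12)) := by decide +kernel
  rcases h i hi with h | h
  · rw [h]
    exact mem_mulSub.2 ⟨_, gx_mem_X _ _, 1, one_mem _, by rw [mul_one]⟩
  · exact mem_mulSub.2 ⟨1, one_mem _, _, Q1_rs _ h (gx_mem_X _ _), by rw [one_mul]⟩

theorem U_le_L : U ≤ L := U_le fun i _ => gx_mem _ _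

/-- the Sylow 2-subgroup of the cover -/
def UK (π : K →* L) : Subgroup K := (U.subgroupOf L).comap π

theorem mem_UK {x : K} : x ∈ UK π ↔ (π x : GL6) ∈ U := Iff.rfl

theorem lift_mem_UK {k : ℕ → K} (hk : Lifts π k) {i : ℕ} (hi : i < 12) : k i ∈ UK π := by
  rw [mem_UK, hk.lift i hi]
  exact gx_mem_U hi

theorem z_mem_UK (C : Cov z π) : z ∈ UK π := by
  rw [mem_UK, C.pz]
  exact one_mem _

/-- every element of `UK` is a product of lifts, up to `z` -/
theorem UK_le (C : Cov z π) {k : ℕ → K} (hk : Lifts π k) : UK π ≤ A k 0 ⊔ zpowers z := by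
  intro x hx
  rw [mem_UK] at hx
  have h1 : U ≤ ((A k 0).map π).map L.subtype := by
    refine U_le fun i hi => ?_
    exact ⟨π (k i), ⟨k i, mem_A k (Nat.zero_le i), rfl⟩, by rw [hk.lift i hi]; rfl⟩
  obtain ⟨_, ⟨a, ha, rfl⟩, h2⟩ := h1 hx
  have h3 : π x = π a := Subtype.ext h2.symm
  rcases C.eq_or h3 with h | h
  · rw [h]; exact mem_sup_left ha
  · rw [h]; exact mul_mem (mem_sup_left ha) (mem_sup_right (mem_zpowers z))

theorem index_U : (U.subgroupOf L).index = 61425 := by
  have h1 := (U.subgroupOf L).card_mul_index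
  have h2 : Nat.card (U.subgroupOf L) = 4096 := by
    rw [Nat.card_congr (subgroupOfEquivOfLe U_le_L).toEquiv, card_U]
  rw [h2, Cfsg.Agent.StdG24.Ord6.card_L] at h1
  omega

theorem index_UK (C : Cov z π) : (UK π).index = 61425 := by
  rw [UK, index_comap_of_surjective _ C.surj, index_U]

theorem card_K [Finite K] (C : Cov z π) : Nat.card K = 2 * 251596800 := by
  have h1 := π.ker.card_eq_card_quotient_mul_card_subgroup
  have h2 : Nat.card (K ⧸ π.ker) = 251596800 := by
    rw [Nat.card_congr (QuotientGroup.quotientKerEquivOfSurjective π C.surj).toEquiv,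
      Cfsg.Agent.StdG24.Ord6.card_L]
  have h3 : Nat.card π.ker = 2 := by
    have h4 : (π.ker : Set K) = {1, z} := by
      ext x
      constructor
      · intro hx; exact C.ker x hx
      · rintro (rfl | rfl)
        · exact one_mem _
        · exact C.pz
    have h5 : Nat.card π.ker = (π.ker : Set K).ncard := rfl
    rw [h5, h4, Set.ncard_pair C.z1.symm]
  rw [h1, h2, h3]

theorem card_UK [Finite K] (C : Cov z π) : Nat.card (UK π) = 8192 := by
  have h1 := (UK π).card_mul_index
  rw [index_UK C, card_K C] at h1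
  omega

theorem finite_of_cov (C : Cov z π) : Finite K := by
  have h2 : Finite L := Nat.finite_of_card_ne_zero (by rw [Cfsg.Agent.StdG24.Ord6.card_L]; norm_num)
  have h3 : Finite π.ker := by
    refine Set.Finite.subset (Set.toFinite {1, z}) ?_ |>.to_subtype
    intro x hx
    exact C.ker x hx
  have h4 : Finite (K ⧸ π.ker) :=
    Finite.of_equiv L (QuotientGroup.quotientKerEquivOfSurjective π C.surj).symm.toEquiv
  exact Finite.of_subgroup_quotient π.ker

/-- The centre of a perfect cover lies in the commutator subgroup of its Sylow 2-subgroup. -/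
theorem z_mem_commutator (C : Cov z π) (hp : commutator K = ⊤) : z ∈ ⁅UK π, UK π⁆ := by
  have := finite_of_cov C
  have h1 := Cfsg.Agent.McLLyComp.CoverMT.pow_index_mem hp (UK π) (z := z)
    (mem_center_iff.2 fun g => (C.zc g).symm) (z_mem_UK C)
  have h2 : z ^ (UK π).index = z := by
    rw [index_UK C]
    calc z ^ 61425 = (z * z) ^ 30712 * z := by rw [← pow_two, ← pow_mul, ← pow_succ]
      _ = z := by rw [C.zz, one_pow, one_mul]
  rw [h2] at h1
  obtain ⟨x, hx, hxz⟩ := h1
  rw [← hxz]
  have h3 : (commutator (UK π)).map (UK π).subtype ≤ ⁅UK π, UK π⁆ := by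
    rw [commutator_def, map_commutator, ← MonoidHom.range_eq_map, range_subtype]
  exact h3 ⟨x, hx, rfl⟩

/-- **The parameter of a perfect cover is not zero.** -/
theorem exists_table_true (C : Cov z π) (hp : commutator K = ⊤) : ∃ k : ℕ → K, Lifts π k ∧
    Sys z k (fun _ => true) 1 T0 := by
  have := finite_of_cov C
  obtain ⟨k, ε, hk, S⟩ := exists_table C
  cases ε with
  | true => exact ⟨k, hk, S⟩
  | false =>
    exfalso
    have h1 := z_mem_commutator C hp
    have h2 : ⁅UK π, UK π⁆ ≤ A k 0 := by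
      have h3 : ∀ x ∈ A k 0 ⊔ zpowers z, ∃ a ∈ A k 0, ∃ c : K, (∀ y, c * y = y * c) ∧ x = a * c := by
        intro x hx
        have hN : (zpowers z).Normal := ⟨by
          intro n hn g
          obtain ⟨m, rfl⟩ := mem_zpowers_iff.1 hn
          have : g * z ^ m * g⁻¹ = z ^ m := by
            have h5 : Commute g (z ^ m) := Commute.zpow_right (C.zc g).symm m
            rw [h5.eq]; group
          rw [this]; exact hn⟩
        obtain ⟨a, ha, c, hc, rfl⟩ := Subgroup.mem_sup_of_normal_right.1 hx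
        refine ⟨a, ha, c, ?_, rfl⟩
        obtain ⟨m, rfl⟩ := mem_zpowers_iff.1 hc
        intro y
        exact (Commute.zpow_right (C.zc y).symm m).symm
      rw [commutator_le]
      intro x hx y hy
      obtain ⟨a, ha, c, hc, rfl⟩ := h3 x (UK_le C hk hx)
      obtain ⟨b, hb, d, hd, rfl⟩ := h3 y (UK_le C hk hy)
      rw [Cfsg.Agent.McLLyComp.CoverMT.comm_mul hc hd]
      exact mul_mem (mul_mem (mul_mem ha hb) (inv_mem ha)) (inv_mem hb)
    have hz : z ∈ A k 0 := h2 h1
    have h4 : UK π ≤ A k 0 := (UK_le C hk).trans (sup_le le_rfl ((zpowers_le).2 hz))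
    have h5 := card_A hk S 12 le_rfl
    have h6 := Subgroup.card_le_of_le h4
    rw [card_UK C] at h6
    have h7 : A k (12 - 12) = A k 0 := rfl
    rw [h7] at h5
    have h8 : (2 : ℕ) ^ 12 = 4096 := by norm_num
    omega

end Cfsg.Agent.OddHalf.D9.G24.Split
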