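import Cfsg.Agent.OddHalf.D9.G24.Collect
import Cfsg.Agent.StdG24.Mod6

/-!
# The Sylow 2-subgroup of a double cover of `G₂(4)`: tables and kernel checks

Generators `0, ..., 11` = `x_a(1), x_a(w), x_b(1), x_b(w), x_{a+b}(1), ..., x_{3a+2b}(w)`
(`a` short, `b` long), in the model of `StdG24.Mod6`.
-/

set_option autoImplicit false
set_option linter.unusedVariables false

namespace Cfsg.Agent.OddHalf.D9.G24.Tab

open Cfsg.Agent.StdG24.Mod6 Cfsg.Agent.OddHalf.D9.G24.Collect

/-- entry of a list -/
def nth {β : Type} (d : β) (l : List β) : ℕ → β :=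
  List.rec (motive := fun _ => ℕ → β) (fun _ => d)
    (fun a _ ih n => Nat.rec (motive := fun _ => β) a (fun n' _ => ih n') n) l

/-- the root of a generator -/
def rt (i : ℕ) : Fin 12 := nth 0 [7, 7, 6, 6, 8, 8, 9, 9, 10, 10, 11, 11] i

/-- the parameter of a generator -/
def tt (i : ℕ) : Fin 3 := nth 0 [0, 1, 0, 1, 0, 1, 0, 1, 0, 1, 0, 1] i

/-- word in the root elements -/
def gw (L : List ℕ) : Wd := L.map fun i => (rt i, tt i)

/-- the commutator words -/
def WT : List (List (List ℕ)) := [
  [[], [], [4, 6, 8, 10], [5, 7, 9, 10, 11], [8, 10], [9, 10, 11], [8], [9], [], [], [], []],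
  [[], [], [5, 6, 7, 8, 10], [4, 5, 6, 9, 10, 11], [8, 9, 11], [8, 10], [9], [8, 9], [], [], [], []],
  [[], [], [], [], [], [], [], [], [10], [11], [], []],
  [[], [], [], [], [], [], [], [], [11], [10, 11], [], []],
  [[], [], [], [], [], [], [10], [11], [], [], [], []],
  [[], [], [], [], [], [], [11], [10, 11], [], [], [], []],
  [[], [], [], [], [], [], [], [], [], [], [], []],
  [[], [], [], [], [], [], [], [], [], [], [], []],
  [[], [], [], [], [], [], [], [], [], [], [], []],
  [[], [], [], [], [], [], [], [], [], [], [], []],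
  [[], [], [], [], [], [], [], [], [], [], [], []],
  [[], [], [], [], [], [], [], [], [], [], [], []]]
/-- the relations with a sign -/
def S0 : List (List ℕ) := [
  [1, 1, 0, 0, 0, 1, 0, 0, 0, 0, 0, 0],
  [0, 1, 0, 0, 1, 0, 0, 0, 0, 0, 0, 0],
  [0, 0, 0, 0, 0, 0, 0, 0, 0, 0, 0, 0],
  [0, 0, 0, 0, 0, 0, 0, 0, 0, 1, 0, 0],
  [0, 0, 0, 0, 1, 1, 0, 1, 0, 0, 0, 0],
  [0, 0, 0, 0, 0, 1, 1, 1, 0, 0, 0, 0],
  [0, 0, 0, 0, 0, 0, 1, 1, 0, 0, 0, 0],
  [0, 0, 0, 0, 0, 0, 0, 1, 0, 0, 0, 0],
  [0, 0, 0, 0, 0, 0, 0, 0, 0, 0, 0, 0],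
  [0, 0, 0, 0, 0, 0, 0, 0, 0, 0, 0, 0],
  [0, 0, 0, 0, 0, 0, 0, 0, 0, 0, 0, 0],
  [0, 0, 0, 0, 0, 0, 0, 0, 0, 0, 0, 0]]
/-- the masks of the change of lifts -/
def AM : List ℕ := [0, 0, 0, 0, 12884918412, 8589967556, 8589951176, 4295000140, 64, 128, 4294967296, 8589934592]
/-- images under the two reflections -/
def IM : List (List (List ℕ)) := [
  [[], [], [8], [9], [6], [7], [4], [5], [2], [3], [10], [11]],
  [[4], [5], [], [], [0], [1], [6], [7], [10], [11], [8], [9]]]
/-- associativity equations `(i, j, k, mask)` -/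
def EQT : List (ℕ × ℕ × ℕ × ℕ) := [
  (0, 6, 6, 20282410812577490038576425992192),
  (0, 7, 7, 166153509376634798396018081728036864),
  (1, 6, 6, 166153499475532335752205140884455424),
  (2, 8, 8, 1361129548813392268460180125516077989888),
  (2, 9, 9, 11150373263879309463225795588227710893162496),
  (3, 8, 8, 11150372599427570847597072499715758763278336),
  (4, 6, 6, 1361129467683758689556776888243771670528),
  (4, 7, 7, 11150372599265351184849116268492977524965376),
  (5, 6, 6, 11150372599265311580439265693241214150639616),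
  (0, 4, 4, 1361129569095801872112210837433518915584),
  (1, 5, 5, 1361129569095801873587590075360093405184),
  (1, 7, 7, 166214361557205910548811023078391808),
  (3, 9, 9, 11154456984589359671016324309468657181786112),
  (5, 7, 7, 11154455987668422253451305329866557129490432),
  (0, 0, 6, 20282409603651670423947251286272),
  (0, 0, 7, 166153499473114484112975882535043584),
  (1, 1, 6, 166153499473114484112975882537140224),
  (2, 2, 8, 1361129467683753853853498429744252715008),
  (2, 2, 9, 11150372599265311570767859136324215112728576),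
  (3, 3, 8, 11150372599265311570767859136464918241345536),
  (4, 4, 6, 1361129467683753853853786660103224557568),
  (4, 4, 7, 11150372599265311570767859712784933056413696),
  (5, 5, 6, 11150372599265311570770220319565615575597056),
  (0, 6, 9, 40564819207303340847894502572032),
  (0, 6, 10, 81129638414606681695789005144064),
  (0, 6, 11, 162259276829213363391578010288128),
  (0, 7, 10, 332306998946228968225951765070086144),
  (2, 5, 8, 1180591620717411303424),
  (3, 4, 6, 70368744177664),
  (0, 5, 5, 11154457150742859144134940493117050656391168),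
  (1, 4, 4, 11150373430255915441980448868500547609559040),
  (0, 6, 7, 40569773385312121598252448481280),
  (0, 1, 6, 40564819207303340847894503621120),
  (0, 0, 4, 1361129569095801872111850549463329277184),
  (1, 1, 5, 1361129569095801872111850549463334518784),
  (0, 2, 2, 20282415950512317976365410287616),
  (0, 3, 3, 166153571273637537428540208206315520),
  (1, 2, 2, 11153094858221028343793216079248780976717824),
  (0, 2, 7, 11150373596226897990485168168274187373248512),
  (1, 3, 3, 2722425088866998051265783133693448028160),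
  (1, 2, 5, 11153094858281853283941914860733572847763456),
  (0, 0, 2, 81129643552541797863931324138832),
  (0, 0, 3, 996921058735693185484982288201551520),
  (1, 1, 2, 11153095024475944815478370457871562374512640)]
/-- equations from the reflections `(g, i, j, mask)` -/
def EQA : List (ℕ × ℕ × ℕ × ℕ) := [
  (0, 2, 2, 20282409603651670423947318394880),
  (0, 2, 3, 40564819207303340847894636789760),
  (0, 2, 4, 1208925819614629443141632),
  (0, 2, 5, 4951760157141521100133367808),
  (0, 2, 6, 72057595111669760),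
  (0, 2, 7, 295147905181500309504),
  (0, 2, 8, 22835964444424825780686429364690351909196791808),
  (0, 2, 9, 45683076539189981505435918881520186145776861184),
  (0, 3, 3, 166153499473114484112976432290856960),
  (0, 3, 4, 2417851639230357861040128),
  (0, 3, 5, 9903520314283044398216249344),
  (0, 3, 6, 144119586122366976),
  (0, 3, 7, 590295819154798673920),
  (0, 3, 9, 68519043705873742653630055953207379908343365632),
  (0, 4, 4, 302231459407256921047040),
  (0, 4, 5, 604462918814513842094080),
  (0, 4, 7, 45683076539189981505435918955343173636858052608),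
  (0, 5, 5, 2475880115464248697217351680),
  (1, 0, 0, 4503599627370497),
  (1, 0, 1, 9007199254740994),
  (1, 0, 4, 116920130987833362944260950074807810426148927569920),
  (1, 0, 5, 327376377912495019157283675221745656974833931583520),
  (1, 0, 6, 23384026197294446691258957323460546328893430169664),
  (1, 0, 7, 46768052394588893382517914646921092657786860339328),
  (1, 0, 8, 288230376151712000),
  (1, 0, 11, 144115188075857920),
  (1, 1, 1, 36893488147419111424),
  (1, 1, 6, 46768052394588893382517914646994843605284679843840),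
  (1, 1, 7, 70152078591883340073776871970529158896074439000064),
  (1, 1, 11, 590295810358714040320),
  (1, 4, 7, 187072209578355573530071658587684262544756384465024)]
/-- certificates -/
def CERT : List (List ℕ) := [
  [0, 312154483771882633938, 0, 0, 295148259265064616448, 891642784509386203889, 0, 0, 295147905179370651656, 295147905181518186510, 8589950984, 885443715541290207806],
  [0, 1186185866301641069419, 0, 0, 20057521435643429825183, 7157625715116429418200, 2510055356617172455448, 5240462062880006621379, 295147905185821542414, 295147905181518219278, 23630743566, 9739880870921517422638],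
  [0, 0, 295147922771556712456, 35184380477440, 295147975548114845705, 295148045916867414026, 295148186654329553416, 295148468129458308096, 0, 0, 16908296, 33816608],
  [0, 0, 0, 295152408781145524238, 295156912380772894730, 295165919580027635724, 295183933979603520062, 295219962776264923182, 147492887880273944, 301437041806073819353, 268435456, 34078752],
  [0, 0, 0, 0, 4611686018427387904, 302931111735027858130, 295436487433603137608, 7206746079348392012, 295147905179352842760, 295147905182584556094, 17825800, 35651616],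
  [0, 0, 0, 0, 0, 5594245584229765995, 8504908671887609940, 8504907572300613831, 295147905179504886784, 295147905182226995246, 134217728, 37748768],
  [0, 0, 0, 0, 0, 0, 4899916394579099648, 302354650982724434642, 295147905179370668041, 295147905181518153738, 16777288, 33554720],
  [0, 0, 0, 0, 0, 0, 0, 7900088593443459947, 295147905179379058698, 295147905181518153740, 67121296, 33554592],
  [0, 0, 0, 0, 0, 0, 0, 0, 295147905179370668040, 8388608, 16777216, 33554432],
  [0, 0, 0, 0, 0, 0, 0, 0, 0, 295147905181518153742, 67108864, 33554480],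
  [0, 0, 0, 0, 0, 0, 0, 0, 0, 0, 16777224, 83890200],
  [0, 0, 0, 0, 0, 0, 0, 0, 0, 0, 0, 33554464]]

/-- the commutator words -/
def W (i j : ℕ) : List ℕ := nth [] (nth [] WT i) j

/-- table of relations with unknown signs: the sign of the relation `(i, j)`, `i ≤ j`, has the number `12 i + j` -/
def T1 (i j : ℕ) : List ℕ × ℕ := (W i j, cond (Nat.blt j 12) (2 ^ (12 * i + j)) 0)

/-- the sign in the final table (variable `0`) -/
def s0 (i j : ℕ) : ℕ := nth 0 (nth [] S0 i) j

/-- the final table -/
def T0 (i j : ℕ) : List ℕ × ℕ := (W i j, s0 i j)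

/-- image of the generator `i` under the reflection `g` -/
def im (g i : ℕ) : List ℕ × ℕ := (nth [] (nth [] IM g) i, 2 ^ (144 + 12 * g + i))

/-- domains of the reflections -/
def dom (g : ℕ) : List ℕ := nth [] [[2, 3, 4, 5, 6, 7, 8, 9, 10, 11], [0, 1, 4, 5, 6, 7, 8, 9, 10, 11]] g

/-- the words of the reflections -/
def nw (g : ℕ) : Wd := nth [] [[(7, 0), (4, 0), (7, 0)], [(6, 0), (5, 0), (6, 0)]] g

/-! ### Kernel checks in `G₂(4)` -/

theorem W_cm : ∀ i < 12, ∀ j < 12, i < j → cw (gw [j, i]) = cw (gw ([i, j] ++ W i j)) := by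
  decide +kernel

theorem W_sq : ∀ i < 12, cw (gw [i, i]) = idC := by decide +kernel

theorem W_diag : ∀ i, W i i = [] := by
  intro i
  by_cases h : i < 12
  · revert i; decide +kernel
  · obtain ⟨n, rfl⟩ := Nat.exists_eq_add_of_le (Nat.not_lt.1 h)
    have h1 : nth [] WT (12 + n) = [] := by
      rw [Nat.add_comm]; rfl
    rw [W, h1]; rfl

theorem W_ge : ∀ i j, 12 ≤ j → W i j = [] := by
  intro i j hj
  obtain ⟨n, rfl⟩ := Nat.exists_eq_add_of_le hj
  rw [Nat.add_comm]
  by_cases h : i < 12
  · interval_cases i <;> rfl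
  · obtain ⟨m, rfl⟩ := Nat.exists_eq_add_of_le (Nat.not_lt.1 h)
    have h1 : nth [] WT (12 + m) = [] := by
      rw [Nat.add_comm]; rfl
    rw [W, h1]; rfl

theorem W_lt : ∀ i < 12, ∀ j < 12, ∀ l ∈ W i j, l < 12 := by decide +kernel

theorem W_dom : ∀ g < 2, ∀ i ∈ dom g, ∀ j ∈ dom g, i < j → ∀ l ∈ W i j, l ∈ dom g := by decide +kernel

theorem dom_lt : ∀ g < 2, ∀ i ∈ dom g, i < 12 := by decide +kernel

theorem im_check : ∀ g < 2, ∀ i ∈ dom g, cw (nw g ++ gw [i] ++ (nw g).reverse) = cw (gw (im g i).1) := by
  decide +kernel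

theorem im_lt : ∀ g < 2, ∀ i ∈ dom g, ∀ l ∈ (im g i).1, l < 12 := by decide +kernel

/-! ### Kernel checks of the equations -/

/-- check of an associativity equation -/
def chkT (e : ℕ × ℕ × ℕ × ℕ) : Bool :=
  cond (Nat.blt e.1 e.2.1)
    (chk T1 12 [([e.2.2.1, e.2.1, e.1], 0)] [([e.2.2.1, e.1, e.2.1], 0), T1 e.1 e.2.1] e.2.2.2)
    (cond (Nat.beq e.1 e.2.1)
      (chk T1 12 [([e.2.2.1, e.2.1, e.1], 0)] [([e.2.2.1], 0), T1 e.1 e.2.1] e.2.2.2) false)

/-- check of an equation from a reflection -/
def chkA (e : ℕ × ℕ × ℕ × ℕ) : Bool :=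
  cond (Nat.blt e.2.1 e.2.2.1)
    (chk T1 12 [im e.1 e.2.2.1, im e.1 e.2.1]
      ([im e.1 e.2.1, im e.1 e.2.2.1] ++ (W e.2.1 e.2.2.1).map (im e.1) ++
        [([], 2 ^ (12 * e.2.1 + e.2.2.1))]) e.2.2.2)
    (cond (Nat.beq e.2.1 e.2.2.1)
      (chk T1 12 [im e.1 e.2.1, im e.1 e.2.1] [([], 2 ^ (13 * e.2.1))] e.2.2.2) false)

theorem EQT_ok : ∀ e ∈ EQT, chkT e = true := by decide +kernel

theorem EQT_lt : ∀ e ∈ EQT, e.1 < 12 ∧ e.2.1 < 12 ∧ e.2.2.1 < 12 := by decide +kernel

theorem EQA_ok : ∀ e ∈ EQA, chkA e = true := by decide +kernel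

theorem EQA_dom : ∀ e ∈ EQA, e.1 < 2 ∧ e.2.1 ∈ dom e.1 ∧ e.2.2.1 ∈ dom e.1 := by decide +kernel

/-- all the equations -/
def EQ : List ℕ := EQT.map (fun e => e.2.2.2) ++ EQA.map (fun e => e.2.2.2)

/-- mask of the change of lifts of a word -/
def am (L : List ℕ) : ℕ := L.foldr (fun l m => nth 0 AM l ^^^ m) 0

theorem cert_ok : ∀ i < 12, ∀ j < 12, i ≤ j →
    xorSel EQ (nth 0 (nth [] CERT i) j) = 2 ^ (12 * i + j) ^^^ am (W i j) ^^^ s0 i j := by decide +kernel

theorem s0_le : ∀ i < 12, ∀ j < 12, s0 i j = 0 ∨ s0 i j = 1 := by decide +kernel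

end Cfsg.Agent.OddHalf.D9.G24.Tab
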